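import Cfsg.Agent.Lib.SharpThree.Frame

/-!
# Existence of frames for sharply triply transitive groups
-/

set_option autoImplicit false

namespace Cfsg.Agent.Lib.SharpThree

open MulAction

universe u v

variable {G : Type u} {α : Type v} [Group G] [MulAction G α]

theorem inj_three {x y w : α} (hxy : x ≠ y) (hxw : x ≠ w) (hyw : y ≠ w) :
    Function.Injective ![x, y, w] := by
  intro i j h
  fin_cases i <;> fin_cases j <;>
    simp [hxy, hxw, hyw, hxy.symm, hxw.symm, hyw.symm] at h ⊢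

theorem three_of_sharp (hsharp : ∀ x : Fin 3 ↪ α, stabilizer G x = ⊥) (g : G) (x y w : α)
    (hxy : x ≠ y) (hxw : x ≠ w) (hyw : y ≠ w) (hx : g • x = x) (hy : g • y = y) (hw : g • w = w) :
    g = 1 := by
  let t : Fin 3 ↪ α := ⟨![x, y, w], inj_three hxy hxw hyw⟩
  have : g ∈ stabilizer G t := by
    rw [mem_stabilizer_iff]
    ext i
    fin_cases i
    · exact hx
    · exact hy
    · exact hw
  rwa [hsharp t, Subgroup.mem_bot] at this

theorem exists_of_trans (h3 : IsMultiplyPretransitive G α 3) (a b c x y w : α) (hab : a ≠ b)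
    (hac : a ≠ c) (hbc : b ≠ c) (hxy : x ≠ y) (hxw : x ≠ w) (hyw : y ≠ w) :
    ∃ g : G, g • a = x ∧ g • b = y ∧ g • c = w := by
  let t : Fin 3 ↪ α := ⟨![a, b, c], inj_three hab hac hbc⟩
  let t' : Fin 3 ↪ α := ⟨![x, y, w], inj_three hxy hxw hyw⟩
  obtain ⟨g, hg⟩ := h3.exists_smul_eq t t'
  exact ⟨g, congrArg (fun e : Fin 3 ↪ α => e 0) hg, congrArg (fun e : Fin 3 ↪ α => e 1) hg,
    congrArg (fun e : Fin 3 ↪ α => e 2) hg⟩

theorem exists_frame [Finite α] [FaithfulSMul G α] (h3 : IsMultiplyPretransitive G α 3)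
    (hsharp : ∀ x : Fin 3 ↪ α, stabilizer G x = ⊥) {a b c : α} (hab : a ≠ b) (hac : a ≠ c)
    (hbc : b ≠ c) (s : G) (hsa : s • a = b) (hsb : s • b = a) (hsc : s • c = c) :
    ∃ (p f : ℕ) (V : Type u) (_ : AddCommGroup V) (F : Frame G α V), p.Prime ∧ 1 ≤ f ∧
      (∀ v : V, p • v = 0) ∧ Nat.card α = p ^ f + 1 ∧ F.a = a ∧ F.b = b ∧ F.c = c ∧ F.s = s := by
  classical
  let := Fintype.ofFinite α
  have : Finite G := Finite.of_injective (fun (g : G) (x : α) => g • x) fun g h e =>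
    eq_of_smul_eq_smul fun x => congrFun e x
  have h1 : IsPretransitive G α :=
    ⟨fun x y => by
      obtain ⟨y', z', h⟩ : ∃ y' z' : α, x ≠ y' ∧ x ≠ z' ∧ y' ≠ z' := by
        by_cases hxa : x = a
        · exact ⟨b, c, hxa ▸ hab, hxa ▸ hac, hbc⟩
        by_cases hxb : x = b
        · exact ⟨a, c, hxa, hxb ▸ hbc, hac⟩
        exact ⟨a, b, hxa, hxb, hab⟩
      obtain ⟨y₁, z₁, h'⟩ : ∃ y' z' : α, y ≠ y' ∧ y ≠ z' ∧ y' ≠ z' := by
        by_cases hxa : y = a
        · exact ⟨b, c, hxa ▸ hab, hxa ▸ hac, hbc⟩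
        by_cases hxb : y = b
        · exact ⟨a, c, hxa, hxb ▸ hbc, hac⟩
        exact ⟨a, b, hxa, hxb, hab⟩
      obtain ⟨g, hg, -, -⟩ := exists_of_trans (G := G) h3 x y' z' y y₁ z₁ h.1 h.2.1 h.2.2 h'.1 h'.2.1 h'.2.2
      exact ⟨g, hg⟩⟩
  have : IsMultiplyPretransitive G α (Nat.succ 2) := h3
  have hpre : IsMultiplyPretransitive (stabilizer G a) (SubMulAction.ofStabilizer G a) 2 :=
    SubMulAction.ofStabilizer.isMultiplyPretransitive.1 this
  have hmem : ∀ x : SubMulAction.ofStabilizer G a, (x : α) ≠ a := fun x => x.2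
  have hs2 : ∀ x : Fin 2 ↪ SubMulAction.ofStabilizer G a, stabilizer (stabilizer G a) x = ⊥ := by
    refine fun x => (Subgroup.eq_bot_iff_forall _).2 fun g hg => Subtype.ext ?_
    have hg' : ∀ i, (g : G) • (x i : α) = x i := fun i =>
      congrArg Subtype.val (congrArg (fun e : Fin 2 ↪ SubMulAction.ofStabilizer G a => e i) hg)
    exact three_of_sharp hsharp g a (x 0) (x 1) (hmem _).symm (hmem _).symm
      (fun h => by simpa using x.injective (Subtype.ext h)) g.2 (hg' 0) (hg' 1)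
  have : FaithfulSMul (stabilizer G a) (SubMulAction.ofStabilizer G a) := ⟨fun {g h} e => by
    refine Subtype.ext (inv_mul_eq_one.1 ?_).symm
    refine three_of_sharp hsharp _ a b c hab hac hbc ((h⁻¹ * g).2) ?_ ?_
    · have := congrArg Subtype.val (e ⟨b, hab.symm⟩)
      change (g : G) • b = (h : G) • b at this
      rw [mul_smul, this, inv_smul_smul]
    · have := congrArg Subtype.val (e ⟨c, hac.symm⟩)
      change (g : G) • c = (h : G) • c at this
      rw [mul_smul, this, inv_smul_smul]⟩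
  have hcard : Fintype.card (SubMulAction.ofStabilizer G a) + 1 = Fintype.card α := by
    rw [Fintype.card_congr (show SubMulAction.ofStabilizer G a ≃ {x : α // x ≠ a} from
        ⟨fun x => ⟨x.1, x.2⟩, fun x => ⟨x.1, x.2⟩, fun x => rfl, fun x => rfl⟩),
      Fintype.card_subtype_compl, Fintype.card_subtype_eq]
    have : 0 < Fintype.card α := Fintype.card_pos_iff.2 ⟨a⟩
    omega
  have h2 : 2 ≤ Fintype.card (SubMulAction.ofStabilizer G a) :=
    Fintype.one_lt_card_iff.2 ⟨⟨b, hab.symm⟩, ⟨c, hac.symm⟩, fun h => hbc (congrArg Subtype.val h)⟩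
  obtain ⟨p, f, N, hp, hf, hn, -, hNn, hNc, hNexp, hNtr, hNreg, -⟩ :=
    Cfsg.Agent.Lib.Perm.Sharply2.exists_kernel hs2 h2
  let : CommGroup N := { (inferInstance : Group N) with mul_comm := hNc.is_comm.comm }
  refine ⟨p, f, Additive N, inferInstance,
    { a := a, b := b, c := c, hab := hab, hac := hac, hbc := hbc, s := s, hsa := hsa, hsb := hsb,
      hsc := hsc, three := three_of_sharp hsharp
      trans3 := fun x y w => exists_of_trans h3 a b c x y w hab hac hbc
      tr := fun v => ((v.toMul : N) : stabilizer G a)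
      tr_add := fun v w => rfl
      tr_a := fun v => ((v.toMul : N) : stabilizer G a).2
      pt_inj := ?_, pt_surj := ?_, tr_conj := ?_ }, hp, hf, ?_, ?_, rfl, rfl, rfl, rfl⟩
  · intro v w e
    have : (w.toMul⁻¹ * v.toMul : N) ∈ stabilizer N (⟨b, hab.symm⟩ : SubMulAction.ofStabilizer G a) := by
      refine Subtype.ext ?_
      change ((((w.toMul⁻¹ * v.toMul : N) : stabilizer G a)) : G) • b = b
      rw [Subgroup.coe_mul, Subgroup.coe_mul, mul_smul, e, Subgroup.coe_inv, Subgroup.coe_inv,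
        inv_smul_smul]
    rw [hNreg, Subgroup.mem_bot, inv_mul_eq_one] at this
    exact Additive.toMul.injective this.symm
  · intro x hx
    obtain ⟨n, hn⟩ := hNtr.exists_smul_eq (⟨b, hab.symm⟩ : SubMulAction.ofStabilizer G a) ⟨x, hx⟩
    exact ⟨Additive.ofMul n, congrArg Subtype.val hn⟩
  · intro g hg v
    exact ⟨Additive.ofMul ⟨_, hNn.conj_mem _ v.toMul.2 ⟨g, hg⟩⟩, rfl⟩
  · intro v
    exact Additive.toMul.injective (Subtype.ext (hNexp _ v.toMul.2))
  · rw [Nat.card_eq_fintype_card, ← hn, hcard]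

end Cfsg.Agent.Lib.SharpThree
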