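import Mathlib

/-!
# Fields of endomorphisms commuting with a group transitive on non-zero elements
-/

set_option autoImplicit false

namespace Cfsg.Agent.Lib.SharpThree

variable {H V : Type*} [Group H] [AddCommGroup V] [DistribMulAction H V]

/-- A commutative subring of endomorphisms commuting with a group that is transitive on non-zero
elements is a field, whose non-zero elements act injectively. -/
theorem isField_of_commute [Finite V] [Nontrivial V]
    (htr : ∀ v w : V, v ≠ 0 → w ≠ 0 → ∃ h : H, h • v = w)
    (L : Subring (AddMonoid.End V)) (hc : ∀ x ∈ L, ∀ y ∈ L, x * y = y * x)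
    (hH : ∀ l ∈ L, ∀ (h : H) (v : V), l (h • v) = h • l v) :
    IsField L ∧ ∀ l : L, l ≠ 0 → Function.Injective (l : AddMonoid.End V) := by
  have hinj : ∀ l : L, l ≠ 0 → Function.Injective (l : AddMonoid.End V) := by
    intro l hl
    rw [injective_iff_map_eq_zero]
    intro v hv
    by_contra hv0
    refine hl (Subtype.ext (AddMonoidHom.ext fun w => ?_))
    by_cases hw : w = 0
    · subst hw
      exact (map_zero (l : AddMonoid.End V)).trans rfl
    · obtain ⟨h, rfl⟩ := htr v w hv0 hw
      change (l : AddMonoid.End V) (h • v) = 0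
      rw [hH l l.2, hv, smul_zero]
  refine ⟨?_, hinj⟩
  let : CommRing L :=
    { (inferInstance : Ring L) with mul_comm := fun x y => Subtype.ext (hc x x.2 y y.2) }
  have : Finite (AddMonoid.End V) := Finite.of_injective _ DFunLike.coe_injective
  obtain ⟨u, hu⟩ := exists_ne (0 : V)
  have : Nontrivial L := ⟨0, 1, fun h => hu (by
    have := congrArg (fun l : L => (l : AddMonoid.End V) u) h
    simpa using this.symm)⟩
  have : NoZeroDivisors L := ⟨fun {l m} h => by
    by_contra! hne
    refine hne.2 (Subtype.ext (AddMonoidHom.ext fun v => hinj l hne.1 ?_))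
    exact (congrArg (fun x : L => (x : AddMonoid.End V) v) h).trans
      (map_zero (l : AddMonoid.End V)).symm⟩
  have : IsDomain L := NoZeroDivisors.to_isDomain L
  exact Finite.isField_of_domain L

theorem closure_commute {s : Set (AddMonoid.End V)} (hs : ∀ x ∈ s, ∀ y ∈ s, x * y = y * x) :
    ∀ x ∈ Subring.closure s, ∀ y ∈ Subring.closure s, x * y = y * x := by
  intro x hx y hy
  have := (Subring.isMulCommutative_closure hs).is_comm.comm ⟨x, hx⟩ ⟨y, hy⟩
  exact congrArg Subtype.val this

theorem closure_commute_smul {s : Set (AddMonoid.End V)}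
    (hs : ∀ x ∈ s, ∀ (h : H) (v : V), x (h • v) = h • x v) :
    ∀ x ∈ Subring.closure s, ∀ (h : H) (v : V), x (h • v) = h • x v := by
  intro x hx
  induction hx using Subring.closure_induction with
  | mem x hx => exact hs x hx
  | zero => simp
  | one => simp
  | add x y _ _ ex ey =>
    intro h v
    change x (h • v) + y (h • v) = h • (x v + y v)
    rw [ex, ey, smul_add]
  | neg x _ ex =>
    intro h v
    change -(x (h • v)) = h • -(x v)
    rw [ex, smul_neg]
  | mul x y _ _ ex ey =>
    intro h v
    change x (y (h • v)) = h • x (y v)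
    rw [ey, ex]

end Cfsg.Agent.Lib.SharpThree
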