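import Cfsg.Agent.Lib.SharpThree.Frame
import Cfsg.Agent.Lib.SharpThree.Field
import Cfsg.Agent.Lib.Linear.ProjLine

/-!
# Sharply triply transitive groups with commutative inverted two-point stabiliser are `PGL₂`
-/

set_option autoImplicit false

namespace Cfsg.Agent.Lib.SharpThree

open MulAction Matrix
open scoped OnePoint MatrixGroups

section Moebius

variable {K : Type} [Field K] [DecidableEq K]

/-- The representation of `PGL₂(K)` on `OnePoint K`. -/
noncomputable def pglHom : ProjGenLinGroup (Fin 2) K →* Equiv.Perm (OnePoint K) :=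
  ((OnePoint.equivProjectivization K).symm.permCongrHom.toMonoidHom).comp (MulAction.toPermHom _ _)

theorem pglHom_mk (g : GL (Fin 2) K) (x : OnePoint K) :
    pglHom (ProjGenLinGroup.mk g) x = g • x := by
  refine (OnePoint.equivProjectivization K).injective ?_
  rw [OnePoint.equivProjectivization_smul, ← Cfsg.Agent.Lib.Linear.PGL_mk_smul]
  simp [pglHom, Equiv.permCongrHom]

theorem pglHom_eq_one_of_fix (g : ProjGenLinGroup (Fin 2) K) (x y w : OnePoint K) (hxy : x ≠ y)
    (hxw : x ≠ w) (hyw : y ≠ w) (hx : pglHom g x = x) (hy : pglHom g y = y) (hw : pglHom g w = w) :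
    g = 1 := by
  have h : ∀ x, pglHom g x = x → g • OnePoint.equivProjectivization K x =
      OnePoint.equivProjectivization K x := fun x hx => by
    conv_rhs => rw [← hx]
    simp [pglHom, Equiv.permCongrHom]
  exact Cfsg.Agent.Lib.Linear.eq_one_of_fix_three g _ _ _
    ((OnePoint.equivProjectivization K).injective.ne hxy)
    ((OnePoint.equivProjectivization K).injective.ne hxw)
    ((OnePoint.equivProjectivization K).injective.ne hyw) (h x hx) (h y hy) (h w hw)

theorem pglHom_injective : Function.Injective (pglHom (K := K)) :=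
  (injective_iff_map_eq_one _).2 fun g hg =>
    pglHom_eq_one_of_fix g ∞ ((0 : K) : OnePoint K) ((1 : K) : OnePoint K) (OnePoint.infty_ne_coe _)
      (OnePoint.infty_ne_coe _) (fun h => zero_ne_one (OnePoint.coe_eq_coe.1 h))
      (by rw [hg]; rfl) (by rw [hg]; rfl) (by rw [hg]; rfl)

theorem exists_pgl_translation (t : K) : ∃ g : ProjGenLinGroup (Fin 2) K,
    pglHom g ∞ = ∞ ∧ ∀ x : K, pglHom g x = ↑(t + x) := by
  let A : GL (Fin 2) K := GeneralLinearGroup.mkOfDetNeZero !![1, t; 0, 1] (by simp [det_fin_two])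
  have h10 : A 1 0 = 0 := rfl
  refine ⟨ProjGenLinGroup.mk A, ?_, fun x => ?_⟩
  · rw [pglHom_mk, OnePoint.smul_infty_eq_self_iff, h10]
  · rw [pglHom_mk, OnePoint.smul_some_eq_ite, h10, show A 1 1 = 1 from rfl, show A 0 0 = 1 from rfl,
      show A 0 1 = t from rfl]
    simp [add_comm]

theorem exists_pgl_mul (c : K) (hc : c ≠ 0) : ∃ g : ProjGenLinGroup (Fin 2) K,
    pglHom g ∞ = ∞ ∧ ∀ x : K, pglHom g x = ↑(c * x) := by
  let A : GL (Fin 2) K := GeneralLinearGroup.mkOfDetNeZero !![c, 0; 0, 1] (by simp [det_fin_two, hc])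
  have h10 : A 1 0 = 0 := rfl
  refine ⟨ProjGenLinGroup.mk A, ?_, fun x => ?_⟩
  · rw [pglHom_mk, OnePoint.smul_infty_eq_self_iff, h10]
  · rw [pglHom_mk, OnePoint.smul_some_eq_ite, h10, show A 1 1 = 1 from rfl, show A 0 0 = c from rfl,
      show A 0 1 = 0 from rfl]
    simp

theorem exists_pgl_inv : ∃ g : ProjGenLinGroup (Fin 2) K,
    pglHom g ∞ = ((0 : K) : OnePoint K) ∧ pglHom g ((0 : K) : OnePoint K) = ∞ ∧
      ∀ x : K, x ≠ 0 → pglHom g x = ↑(x⁻¹) := by
  let A : GL (Fin 2) K := GeneralLinearGroup.mkOfDetNeZero !![0, 1; 1, 0] (by simp [det_fin_two])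
  have h10 : A 1 0 = 1 := rfl
  refine ⟨ProjGenLinGroup.mk A, ?_, ?_, fun x hx => ?_⟩
  · rw [pglHom_mk, OnePoint.smul_infty_eq_ite, h10, show A 0 0 = 0 from rfl]; simp
  · rw [pglHom_mk, OnePoint.smul_some_eq_ite, h10, show A 1 1 = 0 from rfl]; simp
  · rw [pglHom_mk, OnePoint.smul_some_eq_ite, h10, show A 1 1 = 0 from rfl,
      show A 0 0 = 0 from rfl, show A 0 1 = 1 from rfl]
    simp [hx]

end Moebius

variable {G α V : Type*} [Group G] [MulAction G α] [AddCommGroup V]

namespace Frame

/-- A sharply triply transitive group whose two-point stabiliser is commutative and inverted by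
the swapping element is `PGL₂` of a finite field. -/
theorem nonempty_iso_pgl [Finite α] (F : Frame G α V) (hcomm : ∀ g h : F.H, g * h = h * g)
    (hswap : ∀ h : F.H, F.swap h = h⁻¹) :
    ∃ (K : Type) (_ : Field K) (_ : Fintype K), Fintype.card K + 1 = Nat.card α ∧
      Nonempty (G ≃* ProjGenLinGroup (Fin 2) K) := by
  classical
  have := F.finite_V
  have : Nontrivial V := ⟨F.e, 0, F.e_ne⟩
  let ρ : F.H →* AddMonoid.End V := DistribMulAction.toAddMonoidEnd F.H V
  let L := Subring.closure (Set.range ρ)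
  have hcc : ∀ x ∈ L, ∀ y ∈ L, x * y = y * x := closure_commute (by
    rintro _ ⟨g, rfl⟩ _ ⟨h, rfl⟩
    rw [← map_mul, ← map_mul, hcomm])
  have hH : ∀ l ∈ L, ∀ (h : F.H) (v : V), l (h • v) = h • l v := closure_commute_smul (by
    rintro _ ⟨g, rfl⟩ h v
    change g • h • v = h • g • v
    rw [← mul_smul, ← mul_smul, hcomm])
  have htr : ∀ v w : V, v ≠ 0 → w ≠ 0 → ∃ h : F.H, h • v = w := fun v w hv hw => by
    obtain ⟨g, hg⟩ := F.exists_smul_e hv
    obtain ⟨h, hh⟩ := F.exists_smul_e hw
    exact ⟨h * g⁻¹, by rw [← hg, mul_smul, inv_smul_smul, hh]⟩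
  obtain ⟨hfield, hinj⟩ := isField_of_commute htr L hcc hH
  let : Field L := hfield.toField
  have : Finite (AddMonoid.End V) := Finite.of_injective _ DFunLike.coe_injective
  let ρ' : F.H → L := fun h => ⟨ρ h, Subring.subset_closure ⟨h, rfl⟩⟩
  let ev : L →+ V :=
    { toFun := fun l => (l : AddMonoid.End V) F.e
      map_zero' := rfl
      map_add' := fun l m => rfl }
  have hev : Function.Bijective ev := by
    refine ⟨(injective_iff_map_eq_zero ev).2 fun l hl => ?_, fun v => ?_⟩
    · by_contra hne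
      exact F.e_ne (hinj l hne (hl.trans (map_zero (l : AddMonoid.End V)).symm))
    · by_cases hv : v = 0
      · exact ⟨0, hv.symm ▸ map_zero ev⟩
      · obtain ⟨h, hh⟩ := F.exists_smul_e hv
        exact ⟨ρ' h, hh⟩
  let K := Shrink.{0} L
  let : Fintype K := Fintype.ofFinite K
  let r : K ≃+* L := (equivShrink.{0} L).symm.ringEquiv
  let φ : K → V := fun x => ev (r x)
  have hφ : Function.Bijective φ := hev.comp r.bijective
  have hφadd : ∀ x y, φ (x + y) = φ x + φ y := fun x y => by simp [φ]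
  have hφ1 : φ 1 = F.e := by
    simp only [φ, map_one]
    rfl
  have hφmul : ∀ (h : F.H) (x : K), φ (r.symm (ρ' h) * x) = h • φ x := fun h x => by
    change ev (r (r.symm (ρ' h) * x)) = _
    rw [map_mul, RingEquiv.apply_symm_apply]
    rfl
  let E0 : OnePoint K → α := fun q => q.elim F.a fun x => F.pt (φ x)
  have hE0 : Function.Bijective E0 := by
    refine ⟨fun q q' h => ?_, fun x => ?_⟩
    · cases q with
      | infty =>
        cases q' with
        | infty => rfl
        | coe y => exact absurd h.symm (F.pt_ne _)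
      | coe x =>
        cases q' with
        | infty => exact absurd h (F.pt_ne _)
        | coe y => rw [hφ.1 (F.pt_injective h)]
    · by_cases hx : x = F.a
      · exact ⟨∞, hx.symm⟩
      · obtain ⟨v, hv⟩ := F.pt_surj x hx
        obtain ⟨k, hk⟩ := hφ.2 v
        exact ⟨(k : OnePoint K), by change F.pt (φ k) = x; rw [hk]; exact hv⟩
  let E := Equiv.ofBijective E0 hE0
  have hEinf : E ∞ = F.a := rfl
  have hEx : ∀ x : K, E x = F.pt (φ x) := fun x => rfl
  have hE00 : E ((0 : K) : OnePoint K) = F.b := by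
    rw [hEx, show φ 0 = 0 by simp [φ], F.pt_zero]
  let π : G →* Equiv.Perm (OnePoint K) :=
    (E.symm.permCongrHom.toMonoidHom).comp (MulAction.toPermHom G α)
  have hπeq : ∀ g q q', g • E q = E q' → π g q = q' := fun g q q' h => by
    change E.symm (g • E q) = q'
    rw [h, Equiv.symm_apply_apply]
  have hπeq' : ∀ g q q', π g q = q' → g • E q = E q' := fun g q q' h => by
    rw [← h]
    exact (E.apply_symm_apply _).symm
  have htrans : ∀ v, π (F.tr v) ∈ (pglHom (K := K)).range := by
    intro v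
    obtain ⟨t, rfl⟩ := hφ.2 v
    obtain ⟨M, hM, hM'⟩ := exists_pgl_translation t
    refine ⟨M, Equiv.ext fun q => ?_⟩
    cases q with
    | infty => exact hM.trans (hπeq _ _ _ (by rw [hEinf, F.tr_a])).symm
    | coe x => exact (hM' x).trans (hπeq _ _ _ (by rw [hEx, hEx, F.tr_smul, hφadd])).symm
  have hH' : ∀ h : F.H, π h ∈ (pglHom (K := K)).range := by
    intro h
    have hne : r.symm (ρ' h) ≠ 0 := fun e => F.e_ne (by
      have := hφmul h 1
      rw [e, zero_mul, show φ 0 = 0 by simp [φ], hφ1] at this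
      simpa using (congrArg (h⁻¹ • ·) this).symm)
    obtain ⟨M, hM, hM'⟩ := exists_pgl_mul _ hne
    refine ⟨M, Equiv.ext fun q => ?_⟩
    cases q with
    | infty => exact hM.trans (hπeq _ _ _ (by rw [hEinf, F.H_a])).symm
    | coe x => exact (hM' x).trans (hπeq _ _ _ (by rw [hEx, hEx, hφmul, F.pt_act])).symm
  have hs : π F.s ∈ (pglHom (K := K)).range := by
    obtain ⟨M, hM, hM0, hM'⟩ := exists_pgl_inv (K := K)
    refine ⟨M, Equiv.ext fun q => ?_⟩
    cases q with
    | infty => exact hM.trans (hπeq _ _ _ (by rw [hEinf, F.hsa, hE00])).symm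
    | coe x =>
      by_cases hx : x = 0
      · subst hx
        exact hM0.trans (hπeq _ _ _ (by rw [hE00, F.hsb, hEinf])).symm
      · obtain ⟨h, hh⟩ := F.exists_smul_e (v := φ x)
          (fun e => hx (hφ.1 (e.trans (show φ 0 = 0 by simp [φ]).symm)))
        have hx' : r.symm (ρ' h) = x := hφ.1 (by
          rw [← mul_one (r.symm (ρ' h)), hφmul, hφ1, hh])
        have hinv : φ x⁻¹ = h⁻¹ • F.e := by
          have e1 := hφmul h x⁻¹
          rw [hx', mul_inv_cancel₀ hx, hφ1] at e1
          rw [e1, inv_smul_smul]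
        exact (hM' x hx).trans (hπeq _ _ _ (by rw [hEx, hEx, ← hh, F.s_smul_pt, hswap, hinv])).symm
  have hfix : ∀ g : G, g • F.a = F.a → π g ∈ (pglHom (K := K)).range := by
    intro g hg
    obtain ⟨v, hv⟩ := F.pt_surj (g • F.b) (fun h => F.hab (MulAction.injective g (h.trans hg.symm)).symm)
    let h : F.H := ⟨F.tr (-v) * g, F.mem_H.2 ⟨by rw [mul_smul, hg, F.tr_a],
      by rw [mul_smul, ← hv, ← mul_smul, ← F.tr_add, neg_add_cancel, F.tr_zero, one_smul]⟩⟩
    have : g = F.tr v * h := by
      change g = F.tr v * (F.tr (-v) * g)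
      rw [← mul_assoc, ← F.tr_add, add_neg_cancel, F.tr_zero, one_mul]
    rw [this, map_mul]
    exact mul_mem (htrans v) (hH' h)
  have hle : π.range ≤ (pglHom (K := K)).range := by
    rintro _ ⟨g, rfl⟩
    by_cases hg : g • F.a = F.a
    · exact hfix g hg
    obtain ⟨v, hv⟩ := F.pt_surj _ hg
    have h1 := hfix (F.s * F.tr (-v) * g) (by
      rw [mul_smul, mul_smul, ← hv, ← mul_smul (F.tr (-v)), ← F.tr_add, neg_add_cancel, F.tr_zero,
        one_smul, F.hsb])
    have : g = F.tr v * F.s * (F.s * F.tr (-v) * g) := by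
      calc g = F.tr (v + -v) * g := by rw [add_neg_cancel, F.tr_zero, one_mul]
        _ = F.tr v * (F.s * F.s) * F.tr (-v) * g := by rw [F.s_mul_s, mul_one, F.tr_add]
        _ = _ := by simp only [mul_assoc]
    rw [this, map_mul, map_mul]
    exact mul_mem (mul_mem (htrans v) hs) h1
  have hge : (pglHom (K := K)).range ≤ π.range := by
    rintro _ ⟨M, rfl⟩
    set p := pglHom M
    have n1 : (∞ : OnePoint K) ≠ ((0 : K) : OnePoint K) := OnePoint.infty_ne_coe _
    have n2 : (∞ : OnePoint K) ≠ ((1 : K) : OnePoint K) := OnePoint.infty_ne_coe _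
    have n3 : ((0 : K) : OnePoint K) ≠ ((1 : K) : OnePoint K) :=
      fun h => zero_ne_one (OnePoint.coe_eq_coe.1 h)
    have hE1 : E ((1 : K) : OnePoint K) = F.c := by rw [hEx, hφ1, F.pt_e]
    obtain ⟨g, ga, gb, gc⟩ := F.trans3 (E (p ∞)) (E (p ((0 : K) : OnePoint K)))
      (E (p ((1 : K) : OnePoint K))) (E.injective.ne (p.injective.ne n1))
      (E.injective.ne (p.injective.ne n2)) (E.injective.ne (p.injective.ne n3))
    obtain ⟨N, hN⟩ := hle ⟨g, rfl⟩
    refine ⟨g, ?_⟩
    rw [← hN]
    have hq : ∀ q, π g q = p q → pglHom (M⁻¹ * N) q = q := fun q hq => by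
      rw [map_mul, Equiv.Perm.mul_apply, hN, hq, map_inv]
      exact Equiv.symm_apply_apply p q
    have := pglHom_eq_one_of_fix (M⁻¹ * N) _ _ _ n1 n2 n3 (hq _ (hπeq _ _ _ (by rw [hEinf, ga])))
      (hq _ (hπeq _ _ _ (by rw [hE00, gb]))) (hq _ (hπeq _ _ _ (by rw [hE1, gc])))
    rw [← inv_mul_eq_one.1 this]
  have hπinj : Function.Injective π := (injective_iff_map_eq_one π).2 fun g hg => by
    have key : ∀ x : α, g • x = x := fun x => by
      have := hπeq' g (E.symm x) (E.symm x) (by rw [hg]; rfl)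
      rwa [E.apply_symm_apply] at this
    exact F.three g _ _ _ F.hab F.hac F.hbc (key _) (key _) (key _)
  refine ⟨K, inferInstance, inferInstance, ?_,
    ⟨(MonoidHom.ofInjective hπinj).trans ((MulEquiv.subgroupCongr (le_antisymm hle hge)).trans
      (MonoidHom.ofInjective pglHom_injective).symm)⟩⟩
  rw [← Nat.card_eq_fintype_card, Nat.card_congr (Equiv.ofBijective φ hφ), F.card_V]

end Frame

end Cfsg.Agent.Lib.SharpThree
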