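import Mathlib
import Cfsg.Agent.Lib.Perm.Sharply2

/-!
# Sharply triply transitive groups in coordinates

A frame consists of three points `a b c`, the element `s = (a b)(c)…`, and the regular abelian
normal subgroup of the stabiliser of `a`, written additively as `tr : V → G`. The group
`H = G_{a,b}` acts on `V` by group automorphisms, regularly on `V \ {0}`, and `swap` is the
automorphism of `H` induced by `s`.
-/

set_option autoImplicit false

namespace Cfsg.Agent.Lib.SharpThree

open MulAction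

variable {G α V : Type*} [Group G] [MulAction G α] [AddCommGroup V]

variable (G α V) in
/-- Coordinates for a sharply triply transitive action. -/
structure Frame where
  a : α
  b : α
  c : α
  hab : a ≠ b
  hac : a ≠ c
  hbc : b ≠ c
  s : G
  hsa : s • a = b
  hsb : s • b = a
  hsc : s • c = c
  three : ∀ (g : G) (x y w : α), x ≠ y → x ≠ w → y ≠ w →
    g • x = x → g • y = y → g • w = w → g = 1
  trans3 : ∀ x y w : α, x ≠ y → x ≠ w → y ≠ w → ∃ g : G, g • a = x ∧ g • b = y ∧ g • c = w
  tr : V → G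
  tr_add : ∀ v w, tr (v + w) = tr v * tr w
  tr_a : ∀ v, tr v • a = a
  pt_inj : ∀ v w, tr v • b = tr w • b → v = w
  pt_surj : ∀ x, x ≠ a → ∃ v, tr v • b = x
  tr_conj : ∀ g : G, g • a = a → ∀ v, ∃ w, g * tr v * g⁻¹ = tr w

namespace Frame

variable (F : Frame G α V)

theorem tr_zero : F.tr 0 = 1 := by
  have h := F.tr_add 0 0
  rw [add_zero] at h
  exact mul_eq_left.1 h.symm

theorem tr_neg (v : V) : F.tr (-v) = (F.tr v)⁻¹ :=
  eq_inv_of_mul_eq_one_left (by rw [← F.tr_add, neg_add_cancel, F.tr_zero])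

/-- The point with coordinate `v`. -/
def pt (v : V) : α := F.tr v • F.b

theorem pt_injective : Function.Injective F.pt := F.pt_inj

@[simp] theorem pt_zero : F.pt 0 = F.b := by rw [pt, F.tr_zero, one_smul]

theorem pt_ne (v : V) : F.pt v ≠ F.a := fun h =>
  F.hab (MulAction.injective (F.tr v) ((F.tr_a v).trans h.symm))

theorem tr_smul (v w : V) : F.tr v • F.pt w = F.pt (v + w) := by rw [pt, pt, F.tr_add, mul_smul]

/-- The stabiliser of `a` and `b`. -/
def H : Subgroup G := stabilizer G F.a ⊓ stabilizer G F.b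

theorem mem_H {g : G} : g ∈ F.H ↔ g • F.a = F.a ∧ g • F.b = F.b := Iff.rfl

theorem H_a (h : F.H) : (h : G) • F.a = F.a := h.2.1

theorem H_b (h : F.H) : (h : G) • F.b = F.b := h.2.2

noncomputable instance : SMul F.H V where
  smul h v := (F.tr_conj h (F.H_a h) v).choose

theorem tr_act (h : F.H) (v : V) : (h : G) * F.tr v * (h : G)⁻¹ = F.tr (h • v) :=
  (F.tr_conj h (F.H_a h) v).choose_spec

theorem pt_act (h : F.H) (v : V) : F.pt (h • v) = (h : G) • F.pt v := by
  rw [pt, pt, ← F.tr_act, mul_smul, mul_smul, inv_smul_eq_iff.2 (F.H_b h).symm]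

noncomputable instance : DistribMulAction F.H V where
  one_smul v := F.pt_injective (by rw [F.pt_act, Subgroup.coe_one, one_smul])
  mul_smul g h v := F.pt_injective (by
    rw [F.pt_act, F.pt_act, F.pt_act, Subgroup.coe_mul, mul_smul])
  smul_zero h := F.pt_injective (by rw [F.pt_act, F.pt_zero, F.H_b])
  smul_add h v w := F.pt_injective (by
    rw [F.pt_act, ← F.tr_smul, ← F.tr_smul, ← F.tr_act, F.pt_act, mul_smul, mul_smul,
      inv_smul_smul])

theorem eq_one_of_smul (h : F.H) {v : V} (hv : v ≠ 0) (e : h • v = v) : h = 1 := by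
  refine Subtype.ext (F.three h F.a F.b (F.pt v) F.hab (F.pt_ne v).symm ?_ (F.H_a h) (F.H_b h) ?_)
  · intro he
    exact hv (F.pt_injective (by rw [← he, F.pt_zero]))
  · rw [← F.pt_act, e]

theorem eq_of_smul {g h : F.H} {v : V} (hv : v ≠ 0) (e : g • v = h • v) : g = h :=
  (inv_mul_eq_one.1 (F.eq_one_of_smul (g⁻¹ * h) hv (by rw [mul_smul, ← e, inv_smul_smul])))

/-- The coordinate of `c`. -/
noncomputable def e : V := (F.pt_surj F.c F.hac.symm).choose

@[simp] theorem pt_e : F.pt F.e = F.c := (F.pt_surj F.c F.hac.symm).choose_spec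

theorem e_ne : F.e ≠ 0 := fun h => F.hbc (by rw [← F.pt_zero, ← h, F.pt_e])

theorem exists_smul_e {v : V} (hv : v ≠ 0) : ∃ h : F.H, h • F.e = v := by
  obtain ⟨g, ha, hb, hc⟩ := F.trans3 F.a F.b (F.pt v) F.hab (F.pt_ne v).symm
    (fun he => hv (F.pt_injective (by rw [← he, F.pt_zero])))
  exact ⟨⟨g, F.mem_H.2 ⟨ha, hb⟩⟩, F.pt_injective (by rw [F.pt_act, F.pt_e]; exact hc)⟩

/-- `H` corresponds to the non-zero elements of `V`. -/
theorem bijective_smul_e :
    Function.Bijective fun h : F.H => (⟨h • F.e, fun e => F.e_ne (by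
      have := congrArg (h⁻¹ • ·) e
      simpa using this)⟩ : {v : V // v ≠ 0}) :=
  ⟨fun g h e => F.eq_of_smul F.e_ne (congrArg Subtype.val e),
    fun v => by obtain ⟨h, hh⟩ := F.exists_smul_e v.2; exact ⟨h, Subtype.ext hh⟩⟩

include F in
theorem finite_V [Finite α] : Finite V := Finite.of_injective _ F.pt_injective

theorem finite_H [Finite α] : Finite F.H :=
  have := F.finite_V
  Finite.of_injective _ F.bijective_smul_e.1

theorem card_H [Finite α] : Nat.card F.H + 1 = Nat.card V := by
  classical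
  have := F.finite_V
  have := Fintype.ofFinite V
  rw [Nat.card_congr (Equiv.ofBijective _ F.bijective_smul_e), Nat.card_eq_fintype_card,
    Fintype.card_subtype_compl, Fintype.card_subtype_eq, Nat.card_eq_fintype_card]
  have : 0 < Fintype.card V := Fintype.card_pos
  omega

include F in
theorem card_V [Finite α] : Nat.card V + 1 = Nat.card α := by
  classical
  have := Fintype.ofFinite α
  have hb : Function.Bijective fun v : V => (⟨F.pt v, F.pt_ne v⟩ : {x : α // x ≠ F.a}) :=
    ⟨fun v w e => F.pt_injective (congrArg Subtype.val e),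
      fun x => by obtain ⟨v, hv⟩ := F.pt_surj x x.2; exact ⟨v, Subtype.ext hv⟩⟩
  rw [Nat.card_congr (Equiv.ofBijective _ hb), Nat.card_eq_fintype_card,
    Fintype.card_subtype_compl, Fintype.card_subtype_eq, Nat.card_eq_fintype_card]
  have : 0 < Fintype.card α := Fintype.card_pos_iff.2 ⟨F.a⟩
  omega

theorem s_mul_s : F.s * F.s = 1 :=
  F.three _ F.a F.b F.c F.hab F.hac F.hbc (by rw [mul_smul, F.hsa, F.hsb])
    (by rw [mul_smul, F.hsb, F.hsa]) (by rw [mul_smul, F.hsc, F.hsc])

theorem s_smul_s (x : α) : F.s • F.s • x = x := by rw [← mul_smul, F.s_mul_s, one_smul]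

theorem s_inv : F.s⁻¹ = F.s := inv_eq_of_mul_eq_one_left F.s_mul_s

/-- The automorphism of `H` induced by `s`. -/
noncomputable def swap : F.H ≃* F.H :=
  let f : F.H → F.H := fun h => ⟨F.s * h * F.s, F.mem_H.2
    ⟨by rw [mul_smul, mul_smul, F.hsa, F.H_b, F.hsb],
     by rw [mul_smul, mul_smul, F.hsb, F.H_a, F.hsa]⟩⟩
  have hf : ∀ h, f (f h) = h := fun h => Subtype.ext (by
    change F.s * (F.s * h * F.s) * F.s = h
    rw [show F.s * (F.s * (h : G) * F.s) * F.s = F.s * F.s * h * (F.s * F.s) by group,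
      F.s_mul_s, one_mul, mul_one])
  { toFun := f
    invFun := f
    left_inv := hf
    right_inv := hf
    map_mul' := fun g h => Subtype.ext (by
      change F.s * (g * h : G) * F.s = F.s * g * F.s * (F.s * h * F.s)
      rw [show F.s * (g : G) * F.s * (F.s * h * F.s) = F.s * g * (F.s * F.s) * h * F.s by group,
        F.s_mul_s, mul_one]; simp only [mul_assoc]) }

theorem swap_coe (h : F.H) : (F.swap h : G) = F.s * h * F.s := rfl

@[simp] theorem swap_swap (h : F.H) : F.swap (F.swap h) = h := F.swap.left_inv h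

theorem s_smul_pt (h : F.H) : F.s • F.pt (h • F.e) = F.pt (F.swap h • F.e) := by
  rw [F.pt_act, F.pt_act, F.pt_e, F.swap_coe, mul_smul, mul_smul, F.hsc]

/-- The elements of `H` commuting with a swapping element that fixes `h₀ • c` move `c` to one of
its fixed points. -/
theorem centralizer_small (u : F.H) (h₀ : F.H) (hu : u * F.swap h₀ = h₀) {f g : F.H}
    (hf : u * F.swap f = f * u) (hg : g ≠ 1) (hg' : u * F.swap g = g * u) : f = 1 ∨ f = g := by
  have key : ∀ k : F.H, u * F.swap k = k * u →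
      ((u : G) * F.s) • F.pt ((k * h₀) • F.e) = F.pt ((k * h₀) • F.e) := by
    intro k hk
    rw [mul_smul, F.s_smul_pt, ← F.pt_act, ← mul_smul, map_mul, ← mul_assoc, hk, mul_assoc, hu]
  by_contra! h
  have hne : ∀ k l : F.H, k ≠ l → F.pt ((k * h₀) • F.e) ≠ F.pt ((l * h₀) • F.e) := fun k l hkl e =>
    hkl (mul_right_cancel (F.eq_of_smul F.e_ne (F.pt_injective e)))
  have h1 := F.three _ _ _ _ (hne 1 f h.1.symm) (hne 1 g hg.symm) (hne f g h.2)
    (key 1 (by simp)) (key f hf) (key g hg')
  have h2 : ((u : G) * F.s) • F.a = F.b := by rw [mul_smul, F.hsa, F.H_b]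
  rw [h1, one_smul] at h2
  exact F.hab h2

/-- An element acting as negation. -/
theorem exists_neg [Finite α] {p : ℕ} (hp : p.Prime) (hexp : ∀ v : V, p • v = 0) :
    ∃ z : F.H, ∀ v : V, z • v = -v := by
  rcases hp.eq_two_or_odd' with rfl | hodd
  · exact ⟨1, fun v => by rw [one_smul]; exact eq_neg_of_add_eq_zero_left (by rw [← two_nsmul, hexp])⟩
  have := F.finite_H
  have := F.finite_V
  have htwo : ∀ v : V, v + v = 0 → v = 0 := by
    intro v hv
    obtain ⟨k, hk⟩ := hodd
    have := hexp v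
    rwa [hk, add_nsmul, mul_nsmul, two_nsmul, hv, smul_zero, zero_add, one_nsmul] at this
  have hVodd : ¬ 2 ∣ Nat.card V := fun h => by
    have : Fact (Nat.Prime 2) := ⟨Nat.prime_two⟩
    obtain ⟨v, hv⟩ := exists_prime_addOrderOf_dvd_card' (G := V) 2 h
    have h0 := htwo v (by rw [← two_nsmul, ← hv, addOrderOf_nsmul_eq_zero])
    rw [h0, addOrderOf_zero] at hv
    omega
  have : Fact (Nat.Prime 2) := ⟨Nat.prime_two⟩
  obtain ⟨z, hz⟩ := exists_prime_orderOf_dvd_card' (G := F.H) 2 (by have := F.card_H; omega)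
  refine ⟨z, fun v => ?_⟩
  have hzz : z • z • v = v := by
    rw [← mul_smul, ← pow_two, ← hz, pow_orderOf_eq_one, one_smul]
  have h0 : v + z • v = 0 := by
    by_contra h0
    have h1 := F.eq_one_of_smul z h0 (by rw [smul_add, hzz, add_comm])
    rw [h1, orderOf_one] at hz
    omega
  exact eq_neg_of_add_eq_zero_right h0

variable {F} {z : F.H} (hz : ∀ v : V, z • v = -v)

include hz

theorem neg_mul_self : z * z = 1 :=
  F.eq_one_of_smul _ F.e_ne (by rw [mul_smul, hz, hz, neg_neg])

theorem neg_comm (h : F.H) : z * h = h * z :=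
  F.eq_of_smul F.e_ne (by rw [mul_smul, mul_smul, hz, hz, smul_neg])

theorem eq_one_or_eq_neg {h : F.H} (h2 : h * h = 1) : h = 1 ∨ h = z := by
  by_cases h0 : F.e + h • F.e = 0
  · exact Or.inr (F.eq_of_smul F.e_ne (by rw [hz]; exact eq_neg_of_add_eq_zero_right h0))
  · exact Or.inl (F.eq_one_of_smul h h0 (by
      rw [smul_add, ← mul_smul, h2, one_smul, add_comm]))

theorem swap_neg : F.swap z = z := by
  rcases eq_one_or_eq_neg hz (h := F.swap z) (by rw [← map_mul, neg_mul_self hz, map_one]) with h | h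
  · have : z = 1 := F.swap.injective (h.trans (map_one _).symm)
    rw [h, this]
  · exact h

theorem neg_ne_one [Finite α] (h : Odd (Nat.card V)) : z ≠ 1 := by
  intro h1
  have := F.finite_V
  have he := hz F.e
  rw [h1, one_smul] at he
  have : addOrderOf F.e = 2 := by
    refine addOrderOf_eq_prime ?_ F.e_ne
    rw [two_nsmul]
    exact add_eq_zero_iff_eq_neg.2 he
  exact h.not_two_dvd_nat (this ▸ addOrderOf_dvd_natCard F.e)

/-- The only fixed elements of `swap` are `1` and the negation. -/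
theorem eq_of_swap_eq [Finite α] {h : F.H} (hh : F.swap h = h) : h = 1 ∨ h = z := by
  by_cases h1 : z = 1
  · left
    by_contra hne
    have := F.finite_H
    have hpow : ∀ k : F.H, F.swap k = k → k * k = 1 := by
      intro k hk
      by_contra hk2
      rcases F.centralizer_small 1 1 (by simp) (f := k * k) (g := k)
        (by rw [map_mul, hk]; simp) (fun e => hk2 (by rw [e, mul_one])) (by rw [hk]; simp) with h' | h'
      · exact hk2 h'
      · rw [mul_eq_left] at h'
        exact hk2 (by rw [h', mul_one])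
    rcases eq_one_or_eq_neg hz (hpow h hh) with h' | h'
    · exact hne h'
    · exact hne (h'.trans h1)
  · exact F.centralizer_small 1 1 (by simp) (by rw [hh]; simp) h1 (by rw [swap_neg hz]; simp)

/-- The fundamental relation: `u s u = s u s` for `u : x ↦ -1 - x`. -/
theorem key_relation (v : V) :
    let u := F.tr (-F.e) * (z : G)
    u • F.s • u • F.pt v = F.s • u • F.s • F.pt v := by
  intro u
  have hua : u • F.a = F.a := by rw [mul_smul, F.H_a, F.tr_a]
  have hu : ∀ w, u • F.pt w = F.pt (-F.e - w) := fun w => by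
    rw [mul_smul, ← F.pt_act, hz, F.tr_smul, sub_eq_add_neg]
  have hub : u • F.b = F.pt (-F.e) := by rw [← F.pt_zero, hu, sub_zero]
  have hsd : F.s • F.pt (-F.e) = F.pt (-F.e) := by rw [← hz, F.s_smul_pt, swap_neg hz]
  have huu : u * u = 1 := F.three _ F.a F.b (F.pt F.e) F.hab (F.pt_ne _).symm
    (by rw [F.pt_e]; exact F.hbc)
    (by rw [mul_smul, hua, hua]) (by rw [mul_smul, hub, hu, sub_self, F.pt_zero])
    (by rw [mul_smul, hu, hu, sub_sub_cancel])
  have hb' : F.b ≠ F.pt (-F.e) := fun h => F.e_ne (neg_eq_zero.1 (F.pt_injective (by rw [← h, F.pt_zero])))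
  have h3 : F.s * u * (F.s * u) * (F.s * u) = 1 := by
    refine F.three _ F.a F.b (F.pt (-F.e)) F.hab (F.pt_ne _).symm hb' ?_ ?_ ?_
    · simp only [mul_smul, hua, F.hsa, hub, hsd]
      rw [hu, sub_self, F.pt_zero, F.hsb]
    · simp only [mul_smul, hua, F.hsa, hub, hsd]
      rw [hu, sub_self, F.pt_zero, F.hsb, hua, F.hsa]
    · simp only [mul_smul, hua, F.hsa, hub, hsd]
      rw [hu, sub_self, F.pt_zero, F.hsb, hua, F.hsa, hub, hsd]
  have h4 : u * F.s * u = F.s * u * F.s := by
    calc u * F.s * u = F.s⁻¹ * (F.s * u * (F.s * u) * (F.s * u)) * u⁻¹ * F.s⁻¹ := by group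
      _ = F.s * u * F.s := by rw [h3, F.s_inv, inv_eq_of_mul_eq_one_left huu, mul_one]
  simp only [← mul_smul, ← mul_assoc, h4]

omit hz in
/-- A fixed-point-counting consequence used for inverting elements: if no element is moved by
`swap` through `w`, then all elements of the invariant subgroup `K` are inverted. -/
theorem inverts_of_forall_ne [Finite α] (K : Subgroup F.H) (hK : ∀ k ∈ K, F.swap k ∈ K) (w : F.H)
    (hwK : w ∈ K) (hwc : ∀ k ∈ K, w * k = k * w) (hw : F.swap w = w⁻¹)
    (hfix : ∀ k ∈ K, F.swap k = k → k = 1 ∨ k = z)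
    (hno : ∀ k ∈ K, F.swap k ≠ k * w) : ∀ k ∈ K, F.swap k = k⁻¹ := by
  classical
  have := F.finite_H
  let := Fintype.ofFinite F.H
  set T := Finset.univ.filter fun k : F.H => k ∈ K
  set S := T.image fun k => k⁻¹ * F.swap k with hS
  have hmemS : ∀ x ∈ S, x ∈ K ∧ F.swap x = x⁻¹ := by
    intro x hx
    obtain ⟨k, hk, rfl⟩ := Finset.mem_image.1 hx
    have hk : k ∈ K := (Finset.mem_filter.1 hk).2
    exact ⟨K.mul_mem (K.inv_mem hk) (hK k hk),
      by rw [map_mul, map_inv, F.swap_swap, mul_inv_rev, inv_inv]⟩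
  have hsize : T.card ≤ 2 * S.card := by
    refine Finset.card_le_mul_card_image T 2 fun x hx => ?_
    obtain ⟨k, hk, rfl⟩ := Finset.mem_image.1 hx
    refine (Finset.card_le_card (t := {k, z * k}) fun l hl => ?_).trans Finset.card_le_two
    obtain ⟨hl, he⟩ := Finset.mem_filter.1 hl
    have hk : k ∈ K := (Finset.mem_filter.1 hk).2
    have hl : l ∈ K := (Finset.mem_filter.1 hl).2
    have : F.swap (l * k⁻¹) = l * k⁻¹ := by
      have e1 : F.swap l = l * (k⁻¹ * F.swap k) := by rw [← he, mul_inv_cancel_left]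
      rw [map_mul, map_inv, e1]
      group
    rcases hfix _ (K.mul_mem hl (K.inv_mem hk)) this with h | h
    · simp [mul_inv_eq_one.1 h]
    · simp [(mul_inv_eq_iff_eq_mul.1 h)]
  have hdis : Disjoint S (S.image (· * w)) := by
    rw [Finset.disjoint_left]
    intro x hx hx'
    obtain ⟨y, hy, rfl⟩ := Finset.mem_image.1 hx'
    obtain ⟨k, hk, hkx⟩ := Finset.mem_image.1 hx
    obtain ⟨l, hl, rfl⟩ := Finset.mem_image.1 hy
    have hk : k ∈ K := (Finset.mem_filter.1 hk).2
    have hl : l ∈ K := (Finset.mem_filter.1 hl).2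
    refine hno (k * l⁻¹) (K.mul_mem hk (K.inv_mem hl)) ?_
    have e1 : F.swap k = k * (l⁻¹ * F.swap l * w) := by rw [← hkx, mul_inv_cancel_left]
    have hc := hwc (l⁻¹ * F.swap l) (K.mul_mem (K.inv_mem hl) (hK l hl))
    calc F.swap (k * l⁻¹) = k * (l⁻¹ * F.swap l * w) * (F.swap l)⁻¹ := by rw [map_mul, map_inv, e1]
      _ = k * (w * (l⁻¹ * F.swap l)) * (F.swap l)⁻¹ := by rw [hc]
      _ = k * (w * l⁻¹) := by group
      _ = k * l⁻¹ * w := by rw [hwc _ (K.inv_mem hl), mul_assoc]
  have hsub : S ∪ S.image (· * w) ⊆ T := by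
    intro x hx
    refine Finset.mem_filter.2 ⟨Finset.mem_univ _, ?_⟩
    rcases Finset.mem_union.1 hx with h | h
    · exact (hmemS x h).1
    · obtain ⟨y, hy, rfl⟩ := Finset.mem_image.1 h
      exact K.mul_mem (hmemS y hy).1 hwK
  have hT : S ∪ S.image (· * w) = T := by
    refine Finset.eq_of_subset_of_card_le hsub ?_
    rw [Finset.card_union_of_disjoint hdis,
      Finset.card_image_of_injective _ (mul_left_injective w)]
    omega
  intro k hk
  have : k ∈ S ∪ S.image (· * w) := hT ▸ Finset.mem_filter.2 ⟨Finset.mem_univ _, hk⟩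
  rcases Finset.mem_union.1 this with h | h
  · exact (hmemS k h).2
  · obtain ⟨y, hy, rfl⟩ := Finset.mem_image.1 h
    obtain ⟨hyK, hy'⟩ := hmemS y hy
    rw [map_mul, hy', hw, mul_inv_rev, ← mul_inv_rev, hwc y hyK, ← mul_inv_rev]

omit hz in
/-- If `swap` fixes only the identity, it inverts everything. -/
theorem inverts_of_fixed_trivial [Finite α] (hfix : ∀ k : F.H, F.swap k = k → k = 1) :
    ∀ k : F.H, F.swap k = k⁻¹ := by
  have := F.finite_H
  have hinj : Function.Injective fun k : F.H => k⁻¹ * F.swap k := by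
    intro k l e
    have e1 : F.swap k = k * (l⁻¹ * F.swap l) := by
      rw [← show k⁻¹ * F.swap k = l⁻¹ * F.swap l from e, mul_inv_cancel_left]
    refine mul_inv_eq_one.1 (hfix (k * l⁻¹) ?_)
    rw [map_mul, map_inv, e1]
    group
  intro k
  obtain ⟨l, rfl⟩ := (Finite.injective_iff_surjective.1 hinj) k
  simp only [map_mul, map_inv, F.swap_swap, mul_inv_rev, inv_inv]

end Frame

end Cfsg.Agent.Lib.SharpThree
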