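import Cfsg.Agent.Lib.SharpThree.Frame

/-!
# At most one subgroup of order three in the two-point stabiliser
-/

set_option autoImplicit false

namespace Cfsg.Agent.Lib.SharpThree.Frame

open MulAction

variable {G α V : Type*} [Group G] [MulAction G α] [AddCommGroup V] {F : Frame G α V} {z : F.H}
  (hz : ∀ v : V, z • v = -v)

include hz

theorem smul_order_three {w : F.H} (hw : w ^ 3 = 1) (hw1 : w ≠ 1) :
    -F.e - w • F.e = w⁻¹ • F.e := by
  have h3 : w⁻¹ = w * w :=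
    inv_eq_of_mul_eq_one_left (by rw [← hw, pow_succ, pow_two])
  have h0 : F.e + w • F.e + (w * w) • F.e = 0 := by
    by_contra h
    refine hw1 (F.eq_one_of_smul w h ?_)
    rw [smul_add, smul_add, ← mul_smul, ← mul_smul,
      show w * (w * w) = 1 by rw [← hw, pow_succ', pow_two], one_smul]
    abel
  rw [h3]
  linear_combination (norm := abel) -h0

theorem swap_order_three {w : F.H} (hw : w ^ 3 = 1) (hw1 : w ≠ 1) :
    F.swap w = w⁻¹ := by
  have hu : ∀ k : F.H, k ^ 3 = 1 → k ≠ 1 →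
      (F.tr (-F.e) * (z : G)) • F.pt (k • F.e) = F.pt (k⁻¹ • F.e) := by
    intro k hk hk1
    rw [mul_smul, ← F.pt_act, hz, F.tr_smul, ← sub_eq_add_neg, smul_order_three hz hk hk1]
  have hk : ∀ k : F.H, k ^ 3 = 1 → k ≠ 1 → k⁻¹ ^ 3 = 1 ∧ k⁻¹ ≠ 1 ∧ F.swap k ^ 3 = 1 ∧ F.swap k ≠ 1 :=
    fun k h1 h2 => ⟨by rw [inv_pow, h1, inv_one], inv_ne_one.2 h2, by rw [← map_pow, h1, map_one],
      fun h => h2 (F.swap.injective (h.trans (map_one _).symm))⟩
  obtain ⟨a1, a2, a3, a4⟩ := hk w hw hw1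
  obtain ⟨b1, b2, b3, b4⟩ := hk _ a1 a2
  have := key_relation hz (w • F.e)
  simp only at this
  rw [hu w hw hw1, F.s_smul_pt, hu _ b3 b4, F.s_smul_pt, hu _ a3 a4, F.s_smul_pt] at this
  have e := F.eq_of_smul F.e_ne (F.pt_injective this)
  rw [map_inv, inv_inv, map_inv, F.swap_swap] at e
  exact e

/-- There is at most one subgroup of order three in the stabiliser of two points. -/
theorem order_three_unique {w v : F.H} (hw : w ^ 3 = 1) (hw1 : w ≠ 1) (hv : v ^ 3 = 1)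
    (hv1 : v ≠ 1) : v = w ∨ v = w⁻¹ := by
  have hfix : ∀ k : F.H, k ^ 3 = 1 → k ≠ 1 →
      (F.s * (F.tr (-F.e) * (z : G))) • F.pt (k • F.e) = F.pt (k • F.e) := by
    intro k hk hk1
    have hsw := swap_order_three hz (by rw [inv_pow, hk, inv_one]) (inv_ne_one.2 hk1)
    rw [mul_smul, mul_smul, ← F.pt_act, hz, F.tr_smul, ← sub_eq_add_neg,
      smul_order_three hz hk hk1, F.s_smul_pt, hsw, inv_inv]
  by_contra! h
  have hne : w ≠ w⁻¹ := fun e => by
    have h2 : w * w = 1 := by rw [← inv_mul_cancel w, ← e]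
    exact hw1 (by rw [← hw, pow_succ, pow_two, h2, one_mul])
  have hinj : ∀ k l : F.H, k ≠ l → F.pt (k • F.e) ≠ F.pt (l • F.e) :=
    fun k l hkl e => hkl (F.eq_of_smul F.e_ne (F.pt_injective e))
  have h1 := F.three _ _ _ _ (hinj _ _ hne) (hinj _ _ h.1.symm) (hinj _ _ h.2.symm)
    (hfix w hw hw1) (hfix _ (by rw [inv_pow, hw, inv_one]) (inv_ne_one.2 hw1)) (hfix v hv hv1)
  have h2 : (F.s * (F.tr (-F.e) * (z : G))) • F.a = F.b := by
    rw [mul_smul, mul_smul, F.H_a, F.tr_a, F.hsa]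
  rw [h1, one_smul] at h2
  exact F.hab h2

end Cfsg.Agent.Lib.SharpThree.Frame
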