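import Cfsg.Agent.Lib.SharpThree.Frame

/-!
# Signs of swapping elements in sharply triply transitive groups
-/

set_option autoImplicit false

namespace Cfsg.Agent.Lib.SharpThree

open MulAction

theorem sign_of_involutive {β : Type*} [Fintype β] [DecidableEq β] (g : Equiv.Perm β) (hg : g ^ 2 = 1) :
    2 * g.cycleType.card = g.support.card ∧ Equiv.Perm.sign g = (-1) ^ g.cycleType.card := by
  have : Fact (Nat.Prime 2) := ⟨Nat.prime_two⟩
  have h := Equiv.Perm.cycleType_of_pow_prime_eq_one hg
  have hs := g.sum_cycleType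
  rw [h, Multiset.sum_replicate, smul_eq_mul, mul_comm] at hs
  refine ⟨hs, ?_⟩
  rw [Equiv.Perm.sign_of_cycleType, g.sum_cycleType, ← hs, pow_add, pow_mul,
    neg_one_sq, one_pow, one_mul]

theorem sign_of_four_cycles {β : Type*} [Fintype β] [DecidableEq β] (g : Equiv.Perm β)
    (hg : g ^ 4 = 1) (h2 : ∀ x, g x ≠ x → g (g x) ≠ x) :
    4 * g.cycleType.card = g.support.card ∧ Equiv.Perm.sign g = (-1) ^ g.cycleType.card := by
  have h4 : ∀ n ∈ g.cycleType, n = 4 := by
    intro n hn
    have h1 : n ∣ 4 := (Equiv.Perm.dvd_of_mem_cycleType hn).trans (orderOf_dvd_of_pow_eq_one hg)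
    have hn2 := Equiv.Perm.two_le_of_mem_cycleType hn
    have hle := Nat.le_of_dvd (by norm_num) h1
    by_contra hne
    obtain rfl : n = 2 := by
      interval_cases n <;> omega
    obtain ⟨c, τ, rfl, hdis, hc, hcard⟩ := Equiv.Perm.mem_cycleType_iff.1 hn
    obtain ⟨x, y, hxy, rfl⟩ := Equiv.Perm.card_support_eq_two.1 hcard
    have hτ : ∀ u, Equiv.swap x y u ≠ u → τ u = u := fun u hu => (hdis u).resolve_left hu
    have hx : τ x = x := hτ x (by rw [Equiv.swap_apply_left]; exact hxy.symm)
    have hy : τ y = y := hτ y (by rw [Equiv.swap_apply_right]; exact hxy)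
    refine h2 x ?_ ?_ <;>
      simp only [Equiv.Perm.mul_apply, hx, hy, Equiv.swap_apply_left, Equiv.swap_apply_right, ne_eq]
    exact hxy.symm
  have h := Multiset.eq_replicate.2 ⟨rfl, h4⟩
  have hs := g.sum_cycleType
  rw [h, Multiset.sum_replicate, smul_eq_mul, mul_comm] at hs
  refine ⟨hs, ?_⟩
  rw [Equiv.Perm.sign_of_cycleType, g.sum_cycleType, ← hs, pow_add, pow_mul]
  norm_num

namespace Frame

variable {G α V : Type*} [Group G] [MulAction G α] [AddCommGroup V]

theorem card_H_add_two [Fintype α] (F : Frame G α V) : Nat.card F.H + 2 = Fintype.card α := by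
  have h1 := F.card_H
  have h2 := F.card_V
  rw [Nat.card_eq_fintype_card (α := α)] at h2
  omega

variable {F : Frame G α V} [Fintype α] [DecidableEq α]

variable (G α) in
/-- The sign of the permutation induced by an element. -/
noncomputable def sgn : G →* ℤˣ := Equiv.Perm.sign.comp (MulAction.toPermHom G α)

variable {z : F.H} (hz : ∀ v : V, z • v = -v) (hz1 : z ≠ 1)

include hz hz1

theorem sgn_s (h4 : 4 ∣ Nat.card F.H) : sgn G α F.s = 1 := by
  obtain ⟨hk, hs⟩ := sign_of_involutive (MulAction.toPermHom G α F.s)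
    (by rw [← map_pow, pow_two, F.s_mul_s, map_one])
  have hd : F.s • F.pt (-F.e) = F.pt (-F.e) := by rw [← hz, F.s_smul_pt, swap_neg hz]
  have hne : F.c ≠ F.pt (-F.e) := by
    rw [← F.pt_e, ← hz]
    exact fun h => hz1 (F.eq_one_of_smul z F.e_ne (F.pt_injective h).symm)
  have hsupp : (MulAction.toPermHom G α F.s).support = Finset.univ \ {F.c, F.pt (-F.e)} := by
    ext x
    simp only [Equiv.Perm.mem_support, MulAction.toPermHom_apply, MulAction.toPerm_apply,
      Finset.mem_sdiff, Finset.mem_univ, true_and, Finset.mem_insert, Finset.mem_singleton]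
    refine ⟨fun h e => ?_, fun h e => ?_⟩
    · rcases e with rfl | rfl
      · exact h F.hsc
      · exact h hd
    · push Not at h
      have h1 := F.three F.s F.c (F.pt (-F.e)) x hne (Ne.symm h.1) (Ne.symm h.2) F.hsc hd e
      have h2 := F.hsa
      rw [h1, one_smul] at h2
      exact F.hab h2
  rw [hsupp, Finset.card_sdiff_of_subset (Finset.subset_univ _), Finset.card_univ,
    Finset.card_pair hne] at hk
  have h2 := F.card_H_add_two
  obtain ⟨l, hl⟩ := h4
  refine (show sgn G α F.s = Equiv.Perm.sign (MulAction.toPermHom G α F.s) from rfl).trans ?_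
  rw [hs]
  exact Even.neg_one_pow ⟨l, by omega⟩

omit hz hz1 in
theorem sgn_of_involution_no_fixed {t : G} (ht : t * t = 1) (hno : ∀ x : α, t • x ≠ x)
    (h4 : 4 ∣ Nat.card F.H) : sgn G α t = -1 := by
  obtain ⟨hk, hs⟩ := sign_of_involutive (MulAction.toPermHom G α t)
    (by rw [← map_pow, pow_two, ht, map_one])
  have hsupp : (MulAction.toPermHom G α t).support = Finset.univ := by
    ext x
    simp [Equiv.Perm.mem_support, hno x]
  rw [hsupp, Finset.card_univ] at hk
  have h2 := F.card_H_add_two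
  obtain ⟨l, hl⟩ := h4
  refine (show sgn G α t = Equiv.Perm.sign (MulAction.toPermHom G α t) from rfl).trans ?_
  rw [hs]
  exact Odd.neg_one_pow ⟨l, by omega⟩

theorem sgn_of_square_neg {t : G} (hta : t • F.a = F.b) (htb : t • F.b = F.a) (ht : t * t = (z : G))
    (h8 : 8 ∣ Nat.card F.H) : sgn G α t = -1 := by
  have hne : F.a ≠ F.b := F.hab
  set g := Equiv.swap F.a F.b * MulAction.toPermHom G α t with hg
  have hga : g F.a = F.a := by simp [hg, hta]
  have hgb : g F.b = F.b := by simp [hg, htb]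
  have ht' : ∀ x, x ≠ F.a → x ≠ F.b → t • x ≠ F.a ∧ t • x ≠ F.b := fun x h1 h2 =>
    ⟨fun e => h2 (MulAction.injective t (e.trans htb.symm)),
      fun e => h1 (MulAction.injective t (e.trans hta.symm))⟩
  have hgx : ∀ x, x ≠ F.a → x ≠ F.b → g x = t • x := fun x h1 h2 => by
    simp [hg, Equiv.swap_apply_of_ne_of_ne (ht' x h1 h2).1 (ht' x h1 h2).2]
  have hgg : ∀ x, x ≠ F.a → x ≠ F.b → g (g x) = (z : G) • x ∧ g (g x) ≠ x := fun x h1 h2 => by
    rw [hgx x h1 h2, hgx _ (ht' x h1 h2).1 (ht' x h1 h2).2, ← mul_smul, ht]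
    refine ⟨rfl, fun e => hz1 ?_⟩
    exact Subtype.ext (F.three _ F.a F.b x hne (Ne.symm h1) (Ne.symm h2) (F.H_a z) (F.H_b z) e)
  have hsupp : g.support = Finset.univ \ {F.a, F.b} := by
    ext x
    simp only [Equiv.Perm.mem_support, Finset.mem_sdiff, Finset.mem_univ, true_and,
      Finset.mem_insert, Finset.mem_singleton]
    refine ⟨fun h e => ?_, fun h e => ?_⟩
    · rcases e with rfl | rfl
      · exact h hga
      · exact h hgb
    · push Not at h
      exact (hgg x h.1 h.2).2 (by rw [e, e])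
  have hg4 : g ^ 4 = 1 := Equiv.ext fun x => by
    simp only [pow_succ, pow_zero, one_mul, Equiv.Perm.mul_apply, Equiv.Perm.one_apply]
    by_cases h1 : x = F.a
    · subst h1; simp only [hga]
    by_cases h2 : x = F.b
    · subst h2; simp only [hgb]
    obtain ⟨e, -⟩ := hgg x h1 h2
    rw [e]
    have h1' : (z : G) • x ≠ F.a := fun h => h1 (MulAction.injective (z : G) (h.trans (F.H_a z).symm))
    have h2' : (z : G) • x ≠ F.b := fun h => h2 (MulAction.injective (z : G) (h.trans (F.H_b z).symm))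
    rw [(hgg _ h1' h2').1, ← mul_smul, ← Subgroup.coe_mul, neg_mul_self hz, Subgroup.coe_one, one_smul]
  obtain ⟨hk, hs⟩ := sign_of_four_cycles g hg4 fun x hx => by
    by_cases h1 : x = F.a
    · exact absurd (h1 ▸ hga) hx
    by_cases h2 : x = F.b
    · exact absurd (h2 ▸ hgb) hx
    exact (hgg x h1 h2).2
  rw [hsupp, Finset.card_sdiff_of_subset (Finset.subset_univ _), Finset.card_univ,
    Finset.card_pair hne] at hk
  have h2 := F.card_H_add_two
  obtain ⟨l, hl⟩ := h8
  have h : Equiv.Perm.sign g = 1 := by rw [hs]; exact Even.neg_one_pow ⟨l, by omega⟩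
  rw [hg, Equiv.Perm.sign_mul, Equiv.Perm.sign_swap hne] at h
  exact neg_eq_iff_eq_neg.1 (by rw [← h, neg_one_mul]; rfl)

end Frame

end Cfsg.Agent.Lib.SharpThree
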