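import Cfsg.Agent.Lib.SharpThree.OddDegree
import Cfsg.Agent.Lib.SharpThree.OrderThree
import Cfsg.Agent.Lib.SharpThree.Parity
import Cfsg.Agent.Lib.SharpThree.Field

/-!
# An index two subgroup of the two-point stabiliser
-/

set_option autoImplicit false

namespace Cfsg.Agent.Lib.SharpThree

open MulAction

/-- The homomorphism onto `ℤˣ` belonging to a subgroup of index two. -/
theorem exists_hom_of_index_two {H : Type*} [Group H] (K : Subgroup H) (hK : K.index = 2) :
    ∃ χ : H →* ℤˣ, χ ≠ 1 := by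
  classical
  let χ : H →* ℤˣ := MonoidHom.mk' (fun x => if x ∈ K then 1 else -1) fun x y => by
    by_cases hx : x ∈ K <;> by_cases hy : y ∈ K <;>
      simp [hx, hy, Subgroup.mul_mem_iff_of_index_two hK]
  refine ⟨χ, fun h => ?_⟩
  obtain ⟨a, ha⟩ := Subgroup.index_eq_two_iff.1 hK
  have h1 : ∀ x, x ∈ K := fun x => by
    by_contra hx
    have := DFunLike.congr_fun h x
    simp [χ, hx] at this
  rcases ha 1 with ⟨-, h2⟩ | ⟨-, h2⟩ <;> exact h2 (h1 _)

/-- In a finite abelian group with exactly one involution there is a subgroup of index two. -/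
theorem exists_hom_of_comm {H : Type*} [Group H] [Finite H] (hc : ∀ x y : H, x * y = y * x)
    {z : H} (hz : z ≠ 1) (hzz : z * z = 1) (huniq : ∀ x : H, x * x = 1 → x = 1 ∨ x = z) :
    ∃ χ : H →* ℤˣ, χ ≠ 1 := by
  let : CommGroup H := { (inferInstance : Group H) with mul_comm := hc }
  refine exists_hom_of_index_two (powMonoidHom 2 : H →* H).range ?_
  rw [Subgroup.index_range, ← SetLike.coe_sort_coe, Nat.card_coe_set_eq, Set.ncard_eq_two]
  refine ⟨1, z, hz.symm, Set.ext fun x => ?_⟩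
  rw [SetLike.mem_coe, MonoidHom.mem_ker, powMonoidHom_apply, pow_two]
  exact ⟨fun h => huniq x h, fun h => by rcases h with rfl | rfl; exacts [one_mul 1, hzz]⟩

namespace Frame

variable {G α V : Type*} [Group G] [MulAction G α] [AddCommGroup V] {F : Frame G α V} [Finite α]
  {z : F.H} (hz : ∀ v : V, z • v = -v) (hz1 : z ≠ 1)

include hz hz1

theorem exists_zpow_eq_neg {b : F.H} {a : ℕ} (ha : orderOf b = 2 ^ (a + 1)) :
    z = b ^ (2 ^ a) := by
  rcases eq_one_or_eq_neg hz (h := b ^ (2 ^ a)) (by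
    rw [← pow_add, ← two_mul, ← pow_succ', ← ha, pow_orderOf_eq_one]) with h | h
  · exfalso
    rw [← orderOf_dvd_iff_pow_eq_one, ha, Nat.pow_dvd_pow_iff_le_right (by norm_num)] at h
    omega
  · exact h.symm

theorem four_dvd_of_sq_eq_neg {k : F.H} (hk : k * k = z) : 4 ∣ Nat.card F.H := by
  have : Fact (Nat.Prime 2) := ⟨Nat.prime_two⟩
  have h : orderOf k = 2 ^ (1 + 1) := by
    refine orderOf_eq_prime_pow ?_ ?_
    · rw [pow_one, pow_two, hk]; exact hz1
    · rw [pow_succ, pow_mul, pow_one, pow_two k, hk, pow_two, neg_mul_self hz]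
  exact ⟨_, ((show orderOf k = 4 by rw [h]; norm_num) ▸ (orderOf_dvd_natCard k)).choose_spec⟩

/-- Under the assumption that `H` has no index two subgroup: a square root of `b`. -/
theorem root_step (hno : ∀ χ : F.H →* ℤˣ, χ = 1) {b : F.H} {a : ℕ} (hb : ∀ x, b * x = x * b)
    (hsb : F.swap b = b⁻¹) (ha : orderOf b = 2 ^ (a + 1)) :
    ∃ h : F.H, h * h = b ∧ F.swap h = h⁻¹ ∧
      (∀ y, y * y = b → y * h * y⁻¹ = h ∨ y * h * y⁻¹ = h * z) ∧
      (1 ≤ a → ∀ y, y * y = b → y = h ∨ y = h * z) := by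
  classical
  have := F.finite_H
  let := Fintype.ofFinite α
  have hzb := exists_zpow_eq_neg hz hz1 ha
  have hfix : ∀ k : F.H, F.swap k = k → ∃ j : ℤ, k = b ^ j := fun k hk => by
    rcases eq_of_swap_eq hz hk with h | h
    · exact ⟨0, by rw [h, zpow_zero]⟩
    · exact ⟨((2 ^ a : ℕ) : ℤ), by rw [zpow_natCast, h, hzb]⟩
  obtain ⟨k, hk⟩ : ∃ k : F.H, F.swap k = k * b := by
    by_contra! hne
    have hinv := F.inverts_of_forall_ne ⊤ (fun _ _ => Subgroup.mem_top _) b (Subgroup.mem_top _)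
      (fun x _ => hb x) hsb (fun x _ hx => eq_of_swap_eq hz hx) (fun x _ => hne x)
    have hc : ∀ x y : F.H, x * y = y * x := fun x y => by
      calc x * y = F.swap (x * y)⁻¹ := by rw [hinv _ (Subgroup.mem_top _), inv_inv]
        _ = F.swap y⁻¹ * F.swap x⁻¹ := by rw [mul_inv_rev, map_mul]
        _ = y * x := by rw [hinv _ (Subgroup.mem_top _), hinv _ (Subgroup.mem_top _), inv_inv, inv_inv]
    obtain ⟨χ, hχ⟩ := exists_hom_of_comm hc hz1 (neg_mul_self hz) fun x hx => eq_one_or_eq_neg hz hx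
    exact hχ (hno χ)
  have hsgn : ∀ x : F.H, sgn G α (x : G) = 1 := fun x =>
    DFunLike.congr_fun (hno ((sgn G α).comp F.H.subtype)) x
  have hsh : ∀ x : F.H, 4 ∣ Nat.card F.H → sgn G α ((x : G) * F.s) = 1 := fun x h4 => by
    rw [map_mul, hsgn, sgn_s hz hz1 h4, one_mul]
  have hswsq : F.swap (k * k * b) = k * k * b := by
    rw [map_mul, map_mul, hk, hsb, show k * b * (k * b) * b⁻¹ = k * (b * k) by group, hb,
      mul_assoc]
  have hkk : k * k * b = 1 := by
    refine (eq_of_swap_eq hz hswsq).resolve_right fun hkz => ?_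
    rcases Nat.eq_zero_or_pos a with rfl | hpos
    · rw [pow_zero, pow_one] at hzb
      rw [← hzb, mul_eq_right] at hkz
      rcases eq_one_or_eq_neg hz hkz with e | e
      · rw [e, map_one, one_mul, ← hzb] at hk
        exact hz1 hk.symm
      · rw [e, swap_neg hz, ← hzb, neg_mul_self hz] at hk
        exact hz1 hk
    · have : Fact (Nat.Prime 2) := ⟨Nat.prime_two⟩
      have hksq : k * k = b ^ (-1 + ((2 ^ a : ℕ) : ℤ)) := by
        rw [zpow_add, zpow_neg_one, zpow_natCast, ← hzb, ← hkz, ← hb (k * k), inv_mul_cancel_left]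
      have hord : orderOf k = 2 ^ (a + 1 + 1) := by
        refine orderOf_eq_prime_pow (fun e => ?_) ?_
        · have e' : (b ^ (-1 + ((2 ^ a : ℕ) : ℤ))) ^ (2 ^ a) = 1 := by
            rw [← hksq, ← pow_two, ← pow_mul, ← pow_succ']; exact e
          rw [← zpow_natCast (b ^ _), ← zpow_mul, mul_comm, zpow_mul, zpow_natCast, ← hzb,
            zpow_add, zpow_neg_one, zpow_natCast, inv_eq_of_mul_eq_one_left (neg_mul_self hz)] at e'
          obtain ⟨l, hl⟩ : ∃ l, 2 ^ a = 2 * l := ⟨2 ^ (a - 1), by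
            rw [← pow_succ', show a - 1 + 1 = a by omega]⟩
          rw [hl, pow_mul, pow_two, neg_mul_self hz, one_pow, mul_one] at e'
          exact hz1 e'
        · rw [pow_succ', pow_mul, pow_two, hksq, ← zpow_natCast (b ^ _), ← zpow_mul, mul_comm,
            zpow_mul, zpow_natCast, ← ha, pow_orderOf_eq_one, one_zpow]
      have h8 : 8 ∣ Nat.card F.H :=
        (show 8 ∣ 2 ^ (a + 1 + 1) from ⟨2 ^ (a - 1), by
          rw [show (8 : ℕ) = 2 ^ 3 by norm_num, ← pow_add]; congr 1; omega⟩).trans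
          (hord ▸ orderOf_dvd_natCard k)
      have ht : ((k : G) * F.s) * ((k : G) * F.s) = (z : G) := by
        rw [← hkz, mul_assoc k, ← hk, Subgroup.coe_mul, F.swap_coe]
        group
      have h1 := sgn_of_square_neg hz hz1 (t := (k : G) * F.s) (by rw [mul_smul, F.hsa, F.H_b])
        (by rw [mul_smul, F.hsb, F.H_a]) ht h8
      rw [hsh k ((show (4 : ℕ) ∣ 8 by norm_num).trans h8)] at h1
      exact absurd h1 (by decide)
  obtain ⟨h, rfl⟩ : ∃ h, h⁻¹ = k := ⟨k⁻¹, inv_inv k⟩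
  have hhh : h * h = b := by
    rw [← mul_inv_rev, inv_mul_eq_one] at hkk
    exact hkk
  have hswap : F.swap h = h⁻¹ := by
    rw [← inv_inj, ← map_inv, hk, inv_inv, ← hhh, inv_mul_cancel_left]
  have hhb : ∀ j : ℤ, h ≠ b ^ j := by
    intro j hj
    have e : b ^ (j + j - 1) = 1 := by
      rw [zpow_sub, zpow_add, zpow_one, ← hj, hhh, mul_inv_cancel]
    rw [← orderOf_dvd_iff_zpow_eq_one, ha, pow_succ'] at e
    push_cast at e
    have := (dvd_mul_right (2 : ℤ) _).trans e
    omega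
  -- the involution `h s` fixes a point
  have h4 : 4 ∣ Nat.card F.H := by
    have : Fact (Nat.Prime 2) := ⟨Nat.prime_two⟩
    refine four_dvd_of_sq_eq_neg hz hz1 (k := h ^ (2 ^ a)) ?_
    rw [← (Commute.refl h).mul_pow, hhh, hzb]
  have hts : ((h : G) * F.s) * ((h : G) * F.s) = 1 := by
    have := congrArg Subtype.val (show h * F.swap h = 1 by rw [hswap, mul_inv_cancel])
    rw [Subgroup.coe_mul, F.swap_coe, Subgroup.coe_one] at this
    rw [← this]; group
  obtain ⟨h₀, hh₀⟩ : ∃ h₀ : F.H, h * F.swap h₀ = h₀ := by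
    by_contra! hne
    have h1 := sgn_of_involution_no_fixed (t := (h : G) * F.s) hts ?_ h4
    · rw [hsh h h4] at h1
      exact absurd h1 (by decide)
    intro x hx
    by_cases hxa : x = F.a
    · rw [hxa, mul_smul, F.hsa, F.H_b] at hx
      exact F.hab hx.symm
    obtain ⟨v, rfl⟩ := F.pt_surj x hxa
    by_cases hv : v = 0
    · rw [hv, F.tr_zero, one_smul, mul_smul, F.hsb, F.H_a] at hx
      exact F.hab hx
    obtain ⟨h₀, rfl⟩ := F.exists_smul_e hv
    rw [show F.tr (h₀ • F.e) • F.b = F.pt (h₀ • F.e) from rfl, mul_smul, F.s_smul_pt, ← F.pt_act,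
      ← mul_smul] at hx
    exact hne h₀ (F.eq_of_smul F.e_ne (F.pt_injective hx))
  have hcent : ∀ f : F.H, h * F.swap f = f * h → f = 1 ∨ f = z := fun f hf =>
    F.centralizer_small h h₀ hh₀ hf hz1 (by rw [swap_neg hz, neg_comm hz])
  have hcb : ∀ (i : ℤ) (x : F.H), b ^ i * x = x * b ^ i := fun i x => ((Commute.zpow_left (hb x)) i).eq
  have hcbi : ∀ x : F.H, b⁻¹ * x = x * b⁻¹ := fun x => ((Commute.inv_left (hb x))).eq
  have hh' : h⁻¹ = h * b⁻¹ := by rw [← hhh]; group
  have main : ∀ y, y * y = b → (∃ i : ℤ, y = h * b ^ i) ∨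
      (∃ j : ℤ, y * h * y⁻¹ = h * b ^ (2 * j + 1) ∧ b ^ (2 * j + 1) * b ^ (2 * j + 1) = 1) := by
    intro y hy
    have hyi : y⁻¹ = y * b⁻¹ := by rw [← hy]; group
    have hsy : (F.swap y)⁻¹ = F.swap y * b := by
      rw [← map_inv, hyi, map_mul, map_inv, hsb, inv_inv]
    set d := F.swap y * y with hd
    have hsd : F.swap d = d⁻¹ := by
      rw [hd, map_mul, F.swap_swap, mul_inv_rev, hsy, hyi, mul_assoc y, ← mul_assoc b⁻¹, hcbi,
        mul_assoc (F.swap y), inv_mul_cancel, mul_one]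
    have hyd : y * d * y⁻¹ = d⁻¹ := by
      rw [← hsd, hd, map_mul, F.swap_swap]
      group
    obtain ⟨n, hnpos, hn, hnmin⟩ : ∃ n : ℕ, 0 < n ∧ (∃ i : ℤ, d ^ n = b ^ i) ∧
        ∀ l, 0 < l → l < n → ∀ i : ℤ, d ^ l ≠ b ^ i := by
      have hex : ∃ n : ℕ, 0 < n ∧ ∃ i : ℤ, d ^ n = b ^ i :=
        ⟨orderOf d, orderOf_pos d, 0, by rw [pow_orderOf_eq_one, zpow_zero]⟩
      exact ⟨Nat.find hex, (Nat.find_spec hex).1, (Nat.find_spec hex).2,
        fun l hl hl' i hi => Nat.find_min hex hl' ⟨hl, i, hi⟩⟩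
    obtain ⟨i₀, hi₀⟩ := hn
    rcases Nat.even_or_odd' n with ⟨l, rfl | rfl⟩
    · -- `d` has even order modulo `b`
      right
      set e := d ^ l with he
      have hee : e * e = b ^ i₀ := by rw [he, ← pow_add, ← two_mul, hi₀]
      have hse : F.swap e = e * b ^ (-i₀) := by
        rw [he, map_pow, hsd, inv_pow, ← he, zpow_neg, ← hee]; group
      have hye : y * e * y⁻¹ = e⁻¹ := by
        rw [he, ← conj_pow, hyd, inv_pow]
      obtain ⟨i, hi | hi⟩ := eq_zpow_or_of_swap_eq_mul_zpow hb hhh hswap hfix hse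
      · exact absurd hi (hnmin l (by omega) (by omega) i)
      · refine ⟨-i - 1, ?_, ?_⟩
        · rw [hi, mul_inv_rev, show y * (h * b ^ i) * y⁻¹ = y * h * (b ^ i * y⁻¹) by group, hcb,
            ← mul_assoc, hh', ← mul_assoc ((b ^ i)⁻¹), ← zpow_neg, hcb, mul_assoc h] at hye
          rw [eq_mul_inv_of_mul_eq hye, mul_assoc h, ← zpow_neg_one, ← zpow_add, ← zpow_neg,
            ← zpow_add]
          congr 2
          ring
        · have key : y * h * y⁻¹ = h * b ^ (2 * (-i - 1) + 1) := by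
            rw [hi, mul_inv_rev, show y * (h * b ^ i) * y⁻¹ = y * h * (b ^ i * y⁻¹) by group, hcb,
              ← mul_assoc, hh', ← mul_assoc ((b ^ i)⁻¹), ← zpow_neg, hcb, mul_assoc h] at hye
            rw [eq_mul_inv_of_mul_eq hye, mul_assoc h, ← zpow_neg_one, ← zpow_add, ← zpow_neg,
              ← zpow_add]
            congr 2
            ring
          have e2 := congrArg (fun x => x * x) key
          simp only [show y * h * y⁻¹ * (y * h * y⁻¹) = y * (h * h) * y⁻¹ by group, hhh, ← hb y,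
            mul_inv_cancel_right] at e2
          rw [mul_assoc h, ← mul_assoc (b ^ _) h, hcb, mul_assoc h, ← mul_assoc h h, hhh] at e2
          exact mul_left_cancel (e2.symm.trans (mul_one b).symm)
    · -- `d` has odd order modulo `b`
      left
      have hyl : y * d ^ l * y⁻¹ = (d ^ l)⁻¹ := by rw [← conj_pow, hyd, inv_pow]
      set w := y * d ^ l with hw
      have hw' : w = (d ^ l)⁻¹ * y := by rw [← hyl, hw, inv_mul_cancel_right]
      have hww : w * w = b := by
        rw [hw]; conv_lhs => arg 2; rw [← hw, hw']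
        rw [show y * d ^ l * ((d ^ l)⁻¹ * y) = y * y by group, hy]
      have hswd : F.swap w * w = d ^ (2 * l + 1) := by
        rw [hw, map_mul, map_pow, hsd, inv_pow,
          show F.swap y * (d ^ l)⁻¹ * (y * d ^ l) = F.swap y * ((d ^ l)⁻¹ * y) * d ^ l by group,
          ← hw', hw, show F.swap y * (y * d ^ l) * d ^ l = F.swap y * y * (d ^ l * d ^ l) by group,
          ← hd, ← pow_add, ← pow_succ', two_mul]
      have hwi : w⁻¹ = w * b⁻¹ := by rw [← hww]; group
      have hsw : F.swap w = w * b ^ (i₀ - 1) := by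
        rw [eq_mul_inv_of_mul_eq hswd, hi₀, hwi, zpow_sub, zpow_one, ← mul_assoc, hcb, mul_assoc]
      obtain ⟨i, hi | hi⟩ := eq_zpow_or_of_swap_eq_mul_zpow hb hhh hswap hfix hsw
      · exfalso
        rw [hi, ← zpow_add] at hww
        have e : b ^ (i + i - 1) = 1 := by rw [zpow_sub, hww, zpow_one, mul_inv_cancel]
        rw [← orderOf_dvd_iff_zpow_eq_one, ha, pow_succ'] at e
        push_cast at e
        have := (dvd_mul_right (2 : ℤ) _).trans e
        omega
      · have hwd : w * d * w⁻¹ = d⁻¹ := by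
          rw [hw, show y * d ^ l * d * (y * d ^ l)⁻¹ = y * d * y⁻¹ by group, hyd]
        rw [hi, mul_inv_rev, show h * b ^ i * d * ((b ^ i)⁻¹ * h⁻¹) = h * (b ^ i * d) * ((b ^ i)⁻¹ * h⁻¹) by group,
          hcb, show h * (d * b ^ i) * ((b ^ i)⁻¹ * h⁻¹) = h * d * h⁻¹ by group] at hwd
        have hd1 : d = 1 ∨ d = z := hcent d (by
          rw [hsd, ← hwd]
          have e : h * d⁻¹ * h⁻¹ = d := by
            rw [← inv_inj, show (h * d⁻¹ * h⁻¹)⁻¹ = h * d * h⁻¹ by group, hwd]
          calc h * (h * d * h⁻¹) = h * d⁻¹ := by rw [hwd]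
            _ = d * h := mul_inv_eq_iff_eq_mul.1 e)
        obtain ⟨e, he⟩ : ∃ e : ℤ, d = b ^ e := by
          rcases hd1 with h' | h'
          · exact ⟨0, by rw [h', zpow_zero]⟩
          · exact ⟨((2 ^ a : ℕ) : ℤ), by rw [zpow_natCast, h', hzb]⟩
        rw [hw, he, ← zpow_natCast (b ^ e), ← zpow_mul] at hi
        exact ⟨i - e * l, by rw [eq_mul_inv_of_mul_eq hi, mul_assoc, ← zpow_sub]⟩
  have hsq : ∀ i : ℤ, b ^ i * b ^ i = 1 → b ^ i = 1 ∨ b ^ i = z := fun i hi => eq_one_or_eq_neg hz hi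
  have hhy : ∀ (i : ℤ) (y : F.H), y = h * b ^ i → y * y = b → b ^ i * b ^ i = 1 := by
    intro i y hy hyy
    rw [hy, mul_assoc h, ← mul_assoc (b ^ i) h, hcb i h, mul_assoc h, ← mul_assoc h h, hhh] at hyy
    exact mul_left_cancel (hyy.trans (mul_one b).symm)
  refine ⟨h, hhh, hswap, fun y hy => ?_, fun hpos y hy => ?_⟩
  · rcases main y hy with ⟨i, hi⟩ | ⟨j, hj, hj'⟩
    · left
      rw [hi, mul_inv_rev, show h * b ^ i * h * ((b ^ i)⁻¹ * h⁻¹) = h * (b ^ i * h) * ((b ^ i)⁻¹ * h⁻¹) by group,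
        hcb]
      group
    · rcases hsq _ hj' with e | e <;> rw [e] at hj
      · exact Or.inl (by rw [hj, mul_one])
      · exact Or.inr hj
  · rcases main y hy with ⟨i, hi⟩ | ⟨j, hj, hj'⟩
    · rcases hsq _ (hhy i y hi hy) with e | e <;> rw [e] at hi
      · exact Or.inl (by rw [hi, mul_one])
      · exact Or.inr hi
    · exfalso
      rw [← zpow_add, ← orderOf_dvd_iff_zpow_eq_one, ha,
        show a + 1 = a - 1 + 1 + 1 by omega, pow_succ, pow_succ, mul_assoc] at hj'
      push_cast at hj'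
      have := (dvd_mul_left (4 : ℤ) (2 ^ (a - 1))).trans (by simpa using hj')
      omega

end Frame

end Cfsg.Agent.Lib.SharpThree
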