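import Cfsg.Agent.Lib.SharpThree.IndexTwo

/-!
# Existence of an index two subgroup of the two-point stabiliser
-/

set_option autoImplicit false

namespace Cfsg.Agent.Lib.SharpThree.Frame

open MulAction

variable {G α V : Type*} [Group G] [MulAction G α] [AddCommGroup V] {F : Frame G α V} [Finite α]
  {z : F.H} (hz : ∀ v : V, z • v = -v) (hz1 : z ≠ 1)

include hz hz1

/-- If the conjugates of a square root are only `h, hz`, it is central. -/
theorem central_of_conj (hno : ∀ χ : F.H →* ℤˣ, χ = 1) {h : F.H}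
    (hconj : ∀ x, x * h * x⁻¹ = h ∨ x * h * x⁻¹ = h * z) : ∀ x, h * x = x * h := by
  classical
  have hzc : ∀ x, x * (h * z) * x⁻¹ = x * h * x⁻¹ * z := fun x => by
    rw [show x * (h * z) * x⁻¹ = x * h * (z * x⁻¹) by group, neg_comm hz]; group
  have hne : h * z ≠ h := fun e => hz1 (mul_eq_left.1 e)
  let χ : F.H →* ℤˣ := MonoidHom.mk' (fun x => if x * h * x⁻¹ = h then 1 else -1) fun x y => by
    have e : x * y * h * (x * y)⁻¹ = x * (y * h * y⁻¹) * x⁻¹ := by group
    rcases hconj x with hx | hx <;> rcases hconj y with hy | hy <;>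
      simp only [e, hy, hzc, hx, hne, mul_assoc h z z, neg_mul_self hz, mul_one, if_true, if_false,
        one_mul] <;> rfl
  intro x
  have hx := DFunLike.congr_fun (hno χ) x
  by_cases e : x * h * x⁻¹ = h
  · exact ((mul_inv_eq_iff_eq_mul.1 e)).symm
  · simp [χ, e] at hx

/-- Without an index two subgroup there are two anticommuting square roots of `z`. -/
theorem exists_anticommuting (hno : ∀ χ : F.H →* ℤˣ, χ = 1) :
    ∃ k x : F.H, k * k = z ∧ F.swap k = k * z ∧
      (∀ y, y * y = z → y * k * y⁻¹ = k ∨ y * k * y⁻¹ = k * z) ∧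
      x * k * x⁻¹ ≠ k ∧ x * k * x⁻¹ ≠ k * z := by
  have := F.finite_H
  obtain ⟨k, hk, hks, hkn, -⟩ := root_step hz hz1 hno (b := z) (a := 0) (neg_comm hz)
    (by rw [swap_neg hz, inv_eq_of_mul_eq_one_left (neg_mul_self hz)])
    (by rw [zero_add, pow_one]; exact orderOf_eq_prime (by rw [pow_two, neg_mul_self hz]) hz1)
  have hks' : F.swap k = k * z := by
    rw [hks]
    refine inv_eq_of_mul_eq_one_right ?_
    rw [← mul_assoc, hk, neg_mul_self hz]
  by_cases hcase : ∀ x, x * k * x⁻¹ = k ∨ x * k * x⁻¹ = k * z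
  swap
  · push Not at hcase
    obtain ⟨x, h1, h2⟩ := hcase
    exact ⟨k, x, hk, hks', hkn, h1, h2⟩
  exfalso
  have hkc := central_of_conj hz hz1 hno hcase
  suffices hall : ∀ a : ℕ, ∃ b : F.H, (∀ x, b * x = x * b) ∧ F.swap b = b⁻¹ ∧
      orderOf b = 2 ^ (a + 1 + 1) by
    obtain ⟨b, -, -, hb⟩ := hall (Nat.card F.H)
    have h1 := orderOf_le_card (G := F.H) (x := b)
    have h2 := Nat.lt_two_pow_self (n := Nat.card F.H + 1 + 1)
    omega
  have : Fact (Nat.Prime 2) := ⟨Nat.prime_two⟩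
  intro a
  induction a with
  | zero =>
    refine ⟨k, hkc, hks, orderOf_eq_prime_pow ?_ ?_⟩
    · rw [pow_one, pow_two, hk]; exact hz1
    · rw [pow_succ, pow_mul, pow_one, pow_two k, hk, pow_two, neg_mul_self hz]
  | succ a ih =>
    obtain ⟨b, hb, hbs, hbo⟩ := ih
    obtain ⟨h, hh, hhs, -, hu⟩ := root_step hz hz1 hno hb hbs hbo
    refine ⟨h, central_of_conj hz hz1 hno fun x => hu (by omega) _ ?_, hhs, ?_⟩
    · rw [show x * h * x⁻¹ * (x * h * x⁻¹) = x * (h * h) * x⁻¹ by group, hh, ← hb,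
        mul_inv_cancel_right]
    · refine orderOf_eq_prime_pow (fun e => ?_) ?_
      · rw [pow_succ', pow_mul, pow_two, hh, ← orderOf_dvd_iff_pow_eq_one, hbo,
          Nat.pow_dvd_pow_iff_le_right (by norm_num)] at e
        omega
      · rw [pow_succ', pow_mul, pow_two, hh, ← hbo, pow_orderOf_eq_one]

omit hz hz1 in
theorem card_ineq_contra {N C P d : ℕ} (hN : N + 1 = P ^ d) (hle : N ≤ 12 * C)
    (h6 : 6 ∣ C) (hCP : C ∣ P - 1) (hd : d ≠ 1) (hC : 0 < C) (h9 : 9 ∣ N) (hP : 2 ≤ P) (hN0 : 0 < N) : False := by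
  have hC1 : C ≤ P - 1 := Nat.le_of_dvd (by omega) hCP
  rcases Nat.lt_or_ge d 2 with h | h
  · obtain rfl : d = 0 := by omega
    simp at hN
    omega
  · have h1 : P * P ≤ P ^ d := by
      rw [← pow_two]; exact Nat.pow_le_pow_right (by omega) h
    have h7 : P ≤ 11 := by
      by_contra h7
      push Not at h7
      have h2 : 12 * P ≤ P * P := Nat.mul_le_mul h7 le_rfl
      omega
    obtain ⟨l, hl⟩ := h6.trans hCP
    obtain rfl : P = 7 := by
      have := Nat.le_of_dvd (by omega) (h6.trans hCP)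
      omega
    have h3 : d < 3 := by
      by_contra h3
      have := Nat.pow_le_pow_right (show 0 < 7 by norm_num) (Nat.le_of_not_lt h3)
      norm_num at this
      omega
    obtain rfl : d = 2 := by omega
    norm_num at hN
    omega

/-- The two-point stabiliser has a subgroup of index two. -/
theorem exists_hom_ne_one {p : ℕ} (hp : p.Prime) (hexp : ∀ v : V, p • v = 0) :
    ∃ χ : F.H →* ℤˣ, χ ≠ 1 := by
  classical
  by_contra! hno
  have := F.finite_H
  have := F.finite_V
  have := Fintype.ofFinite F.H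
  have := Fintype.ofFinite α
  obtain ⟨k, x₀, hk, hks, hkn, hx1, hx2⟩ := exists_anticommuting hz hz1 hno
  have hzc : ∀ x : F.H, z * x = x * z := neg_comm hz
  have hzz := neg_mul_self hz
  have hzz' : ∀ u : F.H, u * z * z = u := fun u => by rw [mul_assoc, hzz, mul_one]
  have hconjz : ∀ x u : F.H, x * (u * z) * x⁻¹ = x * u * x⁻¹ * z := fun x u => by
    rw [show x * (u * z) * x⁻¹ = x * u * (z * x⁻¹) by group, hzc]; group
  obtain ⟨k', hk'⟩ : ∃ k', k' = x₀ * k * x₀⁻¹ := ⟨_, rfl⟩
  rw [← hk'] at hx1 hx2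
  have hk2 : k' * k' = z := by
    rw [hk', show x₀ * k * x₀⁻¹ * (x₀ * k * x₀⁻¹) = x₀ * (k * k) * x₀⁻¹ by group, hk, ← hzc,
      mul_inv_cancel_right]
  have hk'n : ∀ y, y * y = z → y * k' * y⁻¹ = k' ∨ y * k' * y⁻¹ = k' * z := by
    intro y hy
    have e : y * k' * y⁻¹ = x₀ * ((x₀⁻¹ * y * x₀) * k * (x₀⁻¹ * y * x₀)⁻¹) * x₀⁻¹ := by rw [hk']; group
    rcases hkn (x₀⁻¹ * y * x₀) (by
      rw [show x₀⁻¹ * y * x₀ * (x₀⁻¹ * y * x₀) = x₀⁻¹ * (y * y) * x₀ by group, hy, mul_assoc, hzc,
        inv_mul_cancel_left]) with h | h <;> rw [h] at e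
    · exact Or.inl (by rw [e, ← hk'])
    · exact Or.inr (by rw [e, hconjz, ← hk'])
  have hsqc : ∀ u v : F.H, u * u = z → v * v = z → u * v = v * u → u = v ∨ u = v * z := by
    intro u v hu hv huv
    have h1 : (u * v) * (u * v) = 1 := by
      rw [show u * v * (u * v) = u * (v * u) * v by group, ← huv,
        show u * (u * v) * v = u * u * (v * v) by group, hu, hv, hzz]
    have hvi : v⁻¹ = v * z := inv_eq_of_mul_eq_one_right (by rw [← mul_assoc, hv, hzz])
    rcases eq_one_or_eq_neg hz h1 with e | e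
    · exact Or.inr (by rw [← hvi]; exact eq_inv_of_mul_eq_one_left e)
    · exact Or.inl (by
        rw [← mul_inv_cancel_right u v, e, hvi, hzc, hzz'])
  have hk'k : k' * k = k * k' * z := by
    rcases hkn k' hk2 with h | h
    · exfalso
      rcases hsqc k' k hk2 hk (mul_inv_eq_iff_eq_mul.1 h) with e | e
      · exact hx1 e
      · exact hx2 e
    · rw [mul_inv_eq_iff_eq_mul.1 h, mul_assoc, hzc, mul_assoc]
  have hkk'2 : k * k' * (k * k') = z := by
    rw [mul_assoc, ← mul_assoc k', hk'k, show k * (k * k' * z * k') = k * k * (k' * (z * k')) by group,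
      hk, hzc k', ← mul_assoc k', hk2, hzz, mul_one]
  -- three classes of square roots of `z`
  let r : Fin 3 → F.H := ![k, k', k * k']
  let P : Fin 3 → F.H → Prop := fun i y => y = r i ∨ y = r i * z
  have hr2 : ∀ i, r i * r i = z := fun i => by fin_cases i; exacts [hk, hk2, hkk'2]
  have hne01 : ∀ y, P 0 y → P 1 y → False := by
    rintro y (e | e) (e' | e') <;> rw [e] at e' <;> simp only [r, Matrix.cons_val_zero, Matrix.cons_val_one] at e'
    · exact hx1 e'.symm
    · exact hx2 (by rw [e', hzz'])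
    · exact hx2 e'.symm
    · exact hx1 (mul_right_cancel e').symm
  have hkne : k * z ≠ k := fun e => hz1 (mul_eq_left.1 e)
  have hk'ne : k' * z ≠ k' := fun e => hz1 (mul_eq_left.1 e)
  -- conjugation by the representatives
  have hck : ∀ y, P 1 y ∨ P 2 y → y * k * y⁻¹ = k * z := by
    intro y hy
    rw [mul_inv_eq_iff_eq_mul]
    rcases hy with (rfl | rfl) | (rfl | rfl) <;>
      (try simp only [r, Matrix.cons_val_zero, Matrix.cons_val_one, Matrix.cons_val])
    · rw [hk'k, mul_assoc, ← hzc, mul_assoc]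
    · rw [mul_assoc k' z k, hzc, ← mul_assoc, hk'k, hzz', mul_assoc k z, hzc (k' * z), hzz']
    · rw [mul_assoc k k' k, hk'k, mul_assoc k z, hzc (k * k')]
    · rw [mul_assoc (k * k') z k, hzc, ← mul_assoc, mul_assoc k k' k, hk'k, ← mul_assoc, hzz',
        mul_assoc k z, hzc (k * k' * z), hzz']
  have hck0 : ∀ y, P 0 y → y * k * y⁻¹ = k := by
    intro y hy
    rw [mul_inv_eq_iff_eq_mul]
    rcases hy with rfl | rfl <;> simp only [r, Matrix.cons_val_zero]
    rw [mul_assoc k z, hzc]
  have hex : ∀ y, y * y = z → ∃ i, P i y := by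
    intro y hy
    rcases hkn y hy with h | h
    · exact ⟨0, hsqc y k hy hk (mul_inv_eq_iff_eq_mul.1 h)⟩
    rcases hk'n y hy with h' | h'
    · exact ⟨1, hsqc y k' hy hk2 (mul_inv_eq_iff_eq_mul.1 h')⟩
    refine ⟨2, hsqc y (k * k') hy hkk'2 (mul_inv_eq_iff_eq_mul.1 ?_)⟩
    rw [show y * (k * k') * y⁻¹ = y * k * y⁻¹ * (y * k' * y⁻¹) by group, h, h', mul_assoc k z,
      ← mul_assoc z, hzc, hzz']
  have hun : ∀ y i j, P i y → P j y → i = j := by
    intro y i j hi hj
    have h02 : ¬ (P 0 y ∧ P 2 y) := fun h => hkne ((hck y (Or.inr h.2)).symm.trans (hck0 y h.1))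
    have h12 : ¬ (P 1 y ∧ P 2 y) := by
      rintro ⟨e | e, e' | e'⟩ <;> rw [e] at e' <;>
        simp only [r, Matrix.cons_val_one, Matrix.cons_val, Matrix.cons_val_zero] at e'
      · rw [right_eq_mul] at e'
        exact hz1 (by rw [← hk, e', one_mul])
      · have e2 : k * z = 1 := mul_right_cancel (b := k') (by
          rw [mul_assoc, hzc, ← mul_assoc, ← e', one_mul])
        exact hkne (by rw [e2]; exact (by
          have e3 : k = z := by rw [← hzz' k, e2, one_mul]
          rw [e3] at hk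
          exact (hz1 (hk.symm.trans hzz)).elim))
      · have e2 : k * z = 1 := mul_right_cancel (b := k') (by
          rw [mul_assoc, hzc, ← mul_assoc, ← e', hzz', one_mul])
        have e3 : k = z := by rw [← hzz' k, e2, one_mul]
        rw [e3] at hk
        exact hz1 (hk.symm.trans hzz)
      · rw [mul_left_inj, right_eq_mul] at e'
        exact hz1 (by rw [← hk, e', one_mul])
    have h3 : ∀ i : Fin 3, i = 0 ∨ i = 1 ∨ i = 2 := by decide
    rcases h3 i with rfl | rfl | rfl <;> rcases h3 j with rfl | rfl | rfl <;> first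
      | rfl
      | exact absurd hj (fun h => hne01 y hi h)
      | exact absurd hi (fun h => hne01 y hj h)
      | exact (h02 ⟨hi, hj⟩).elim
      | exact (h02 ⟨hj, hi⟩).elim
      | exact (h12 ⟨hi, hj⟩).elim
      | exact (h12 ⟨hj, hi⟩).elim
  have hconj : ∀ x y i, P i y → y * y = z ∧ (x * y * x⁻¹) * (x * y * x⁻¹) = z := by
    intro x y i hy
    have h1 : y * y = z := by
      rcases hy with rfl | rfl
      · exact hr2 i
      · rw [mul_assoc, ← mul_assoc z, hzc, hzz', hr2]
    exact ⟨h1, by rw [show x * y * x⁻¹ * (x * y * x⁻¹) = x * (y * y) * x⁻¹ by group, h1, ← hzc,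
      mul_inv_cancel_right]⟩
  choose f hf using fun (x : F.H) (i : Fin 3) =>
    hex (x * r i * x⁻¹) (hconj x (r i) i (Or.inl rfl)).2
  have hPz : ∀ i y, P i y → P i (y * z) := by
    rintro i y (rfl | rfl)
    · exact Or.inr rfl
    · exact Or.inl (hzz' _)
  have hcl : ∀ x i y, P i y → P (f x i) (x * y * x⁻¹) := by
    rintro x i y (rfl | rfl)
    · exact hf x i
    · rw [hconjz]; exact hPz _ _ (hf x i)
  have hfmul : ∀ x y i, f (x * y) i = f x (f y i) := fun x y i =>
    hun _ _ _ (hf (x * y) i) (by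
      rw [show x * y * r i * (x * y)⁻¹ = x * (y * r i * y⁻¹) * x⁻¹ by group]
      exact hcl _ _ _ (hf y i))
  have hfone : ∀ i, f 1 i = i := fun i => hun _ _ _ (hf 1 i) (Or.inl (by group))
  let π : F.H →* Equiv.Perm (Fin 3) :=
    { toFun := fun x => ⟨f x, f x⁻¹,
        fun i => by rw [← hfmul, inv_mul_cancel, hfone],
        fun i => by rw [← hfmul, mul_inv_cancel, hfone]⟩
      map_one' := Equiv.ext hfone
      map_mul' := fun x y => Equiv.ext (hfmul x y) }
  have hπ : ∀ x i, π x i = f x i := fun x i => rfl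
  have hsign : ∀ x, Equiv.Perm.sign (π x) = 1 := fun x =>
    DFunLike.congr_fun (hno (Equiv.Perm.sign.comp π)) x
  have hcube : ∀ q : Equiv.Perm (Fin 3), Equiv.Perm.sign q = 1 → q ^ 3 = 1 := by decide
  have hinv : ∀ q : Equiv.Perm (Fin 3), Equiv.Perm.sign q = 1 →
      Equiv.swap 1 2 * q * Equiv.swap 1 2 = q⁻¹ := by decide
  have hfix0 : ∀ q : Equiv.Perm (Fin 3), Equiv.Perm.sign q = 1 → q 0 = 0 → q = 1 := by decide
  -- the swap automorphism on the classes
  have hswz : F.swap z = z := swap_neg hz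
  have hzord : orderOf z = 2 := orderOf_eq_prime (by rw [pow_two, hzz]) hz1
  have hkinv : F.swap k = k⁻¹ := by
    rw [hks]
    exact eq_inv_of_mul_eq_one_right (by rw [← mul_assoc, hk, hzz])
  have hfixz : ∀ u : F.H, F.swap u = u → ∃ j : ℤ, u = z ^ j := fun u hu => by
    rcases eq_of_swap_eq hz hu with e | e
    · exact ⟨0, by rw [e, zpow_zero]⟩
    · exact ⟨1, by rw [e, zpow_one]⟩
  have hzpow : ∀ i : ℤ, z ^ i = 1 ∨ z ^ i = z := fun i => eq_one_or_eq_neg hz
    (by rw [← (Commute.refl z).mul_zpow, hzz, one_zpow])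
  have hnotP0 : ∀ u i, u = z ^ (i : ℤ) → u * u ≠ z := fun u i hu e => by
    rcases hzpow i with e' | e' <;> rw [e'] at hu <;> rw [hu] at e
    · exact hz1 (e.symm.trans (one_mul 1))
    · exact hz1 (e.symm.trans hzz)
  have hσk' : P 2 (F.swap k') := by
    obtain ⟨i, hi⟩ := hex (F.swap k') (by rw [← map_mul, hk2, hswz])
    have h3 : ∀ i : Fin 3, i = 0 ∨ i = 1 ∨ i = 2 := by decide
    rcases h3 i with rfl | rfl | rfl
    · exfalso
      have e0 : P 0 (F.swap (F.swap k')) := by
        rcases hi with e | e <;> rw [e] <;> simp only [r, Matrix.cons_val_zero]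
        · exact Or.inr hks
        · exact Or.inl (by rw [map_mul, hks, hswz, hzz']; rfl)
      rw [F.swap_swap] at e0
      exact hne01 k' e0 (Or.inl rfl)
    · exfalso
      rcases hi with e | e <;> simp only [r, Matrix.cons_val_one, Matrix.cons_val_zero] at e
      · rcases eq_of_swap_eq hz e with e' | e' <;> rw [e'] at hk2
        · exact hz1 (hk2.symm.trans (one_mul 1))
        · exact hz1 (hk2.symm.trans hzz)
      · obtain ⟨i, hi | hi⟩ := eq_zpow_or_of_swap_eq_mul_zpow (b := z) (h := k) hzc hk hkinv hfixz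
          (j := 1) (by rw [zpow_one]; exact e)
        · exact hnotP0 k' i hi hk2
        · refine hne01 k' ?_ (Or.inl rfl)
          rcases hzpow i with e' | e' <;> rw [e'] at hi
          · exact Or.inl (hi.trans (mul_one k))
          · exact Or.inr hi
    · exact hi
  let τ : Equiv.Perm (Fin 3) := Equiv.swap 1 2
  have hτ : ∀ i y, P i y → P (τ i) (F.swap y) := by
    have base : ∀ i, P (τ i) (F.swap (r i)) := by
      intro i
      have h3 : ∀ i : Fin 3, i = 0 ∨ i = 1 ∨ i = 2 := by decide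
      rcases h3 i with rfl | rfl | rfl
      · rw [show τ 0 = 0 from rfl]; exact Or.inr hks
      · rw [show τ 1 = 2 from rfl]; exact hσk'
      · rw [show τ 2 = 1 from rfl]
        have e : k * z * (k * k') = k' := by
          rw [mul_assoc k z, hzc (k * k'), ← mul_assoc, ← mul_assoc, hk, hzc k', hzz']
        rcases hσk' with h | h <;> simp only [r, Matrix.cons_val] at h ⊢
        · exact Or.inl (by rw [map_mul, hks, h, e]; rfl)
        · exact Or.inr (by rw [map_mul, hks, h, ← mul_assoc (k * z), e]; rfl)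
    rintro i y (rfl | rfl)
    · exact base i
    · rw [map_mul, hswz]; exact hPz _ _ (base i)
  have hπσ : ∀ x, π (F.swap x) = τ * π x * τ := fun x => Equiv.ext fun j => by
    refine hun _ _ _ (hf (F.swap x) j) ?_
    have h1 := hτ _ _ (hcl x _ _ (hτ j (r j) (Or.inl rfl)))
    rw [map_mul, map_mul, map_inv, F.swap_swap] at h1
    exact h1
  -- the centraliser of the three classes
  let C : Subgroup F.H :=
    { carrier := {x | x * k = k * x ∧ x * k' = k' * x}
      one_mem' := ⟨by rw [one_mul, mul_one], by rw [one_mul, mul_one]⟩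
      mul_mem' := fun {x y} hx hy => ⟨(Commute.mul_left (hx.1 : Commute x k) hy.1).eq,
        (Commute.mul_left (hx.2 : Commute x k') hy.2).eq⟩
      inv_mem' := fun {x} hx => ⟨(Commute.inv_left (hx.1 : Commute x k)).eq,
        (Commute.inv_left (hx.2 : Commute x k')).eq⟩ }
  have hCall : ∀ c ∈ C, ∀ y, y * y = z → c * y = y * c := by
    intro c hc y hy
    obtain ⟨i, hi⟩ := hex y hy
    have hri : Commute c (r i) := by
      have h3 : ∀ i : Fin 3, i = 0 ∨ i = 1 ∨ i = 2 := by decide
      rcases h3 i with rfl | rfl | rfl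
      · exact hc.1
      · exact hc.2
      · exact Commute.mul_right (hc.1 : Commute c k) hc.2
    rcases hi with rfl | rfl
    · exact hri.eq
    · exact (hri.mul_right ((hzc c).symm : Commute c z)).eq
  have hconjsq : ∀ x y : F.H, y * y = z → x * y * x⁻¹ * (x * y * x⁻¹) = z := fun x y hy => by
    rw [show x * y * x⁻¹ * (x * y * x⁻¹) = x * (y * y) * x⁻¹ by group, hy, ← hzc, mul_inv_cancel_right]
  have hCn : ∀ x, ∀ c ∈ C, x * c * x⁻¹ ∈ C := by
    intro x c hc
    have key : ∀ y, y * y = z → x * c * x⁻¹ * y = y * (x * c * x⁻¹) := by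
      intro y hy
      have e := hCall c hc (x⁻¹ * y * x) (by
        have := hconjsq x⁻¹ y hy
        rwa [inv_inv] at this)
      calc x * c * x⁻¹ * y = x * (c * (x⁻¹ * y * x)) * x⁻¹ := by group
        _ = y * (x * c * x⁻¹) := by rw [e]; group
    exact ⟨key k hk, key k' hk2⟩
  have hCσ : ∀ c ∈ C, F.swap c ∈ C := by
    intro c hc
    have key : ∀ y, y * y = z → F.swap c * y = y * F.swap c := by
      intro y hy
      have e := congrArg F.swap (hCall c hc (F.swap y) (by rw [← map_mul, hy, hswz]))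
      rwa [map_mul, map_mul, F.swap_swap] at e
    exact ⟨key k hk, key k' hk2⟩
  have hzC : z ∈ C := ⟨hzc k, hzc k'⟩
  have hkk' : k * k' ≠ k' * k := fun e => hz1 (by
    rw [hk'k] at e
    exact mul_eq_left.1 e.symm)
  have hCinv : ∀ c ∈ C, F.swap c = c⁻¹ := by
    refine F.inverts_of_forall_ne C hCσ z hzC (fun c _ => hzc c)
      (by rw [hswz, inv_eq_of_mul_eq_one_left hzz]) (fun c _ hc => eq_of_swap_eq hz hc) fun c hc e => ?_
    obtain ⟨i, hi | hi⟩ := eq_zpow_or_of_swap_eq_mul_zpow (b := z) (h := k) hzc hk hkinv hfixz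
      (j := 1) (by rw [zpow_one]; exact e)
    · rw [hi, map_zpow, hswz] at e
      exact hz1 (mul_eq_left.1 e.symm)
    · refine hkk' ?_
      have e1 : k = c * (z ^ i)⁻¹ := by rw [hi, mul_inv_cancel_right]
      rw [e1]
      exact (Commute.mul_left (hc.2 : Commute c k')
        (Commute.inv_left (Commute.zpow_left (hzc k' : Commute z k') i))).eq
  have hCc : ∀ c ∈ C, ∀ d ∈ C, c * d = d * c := by
    intro c hc d hd
    calc c * d = F.swap (c * d)⁻¹ := by rw [hCinv _ (inv_mem (mul_mem hc hd)), inv_inv]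
      _ = F.swap d⁻¹ * F.swap c⁻¹ := by rw [mul_inv_rev, map_mul]
      _ = d * c := by rw [hCinv _ (inv_mem hc), hCinv _ (inv_mem hd), inv_inv, inv_inv]
  -- conjugation inside the quaternion group
  have hkk'c : k * k' * k⁻¹ = k' * z := by
    rw [mul_inv_eq_iff_eq_mul, mul_assoc, hzc, ← mul_assoc, hk'k, hzz']
  have hpt : ∀ i, P i (k * r i * k⁻¹) := by
    intro i
    have h3 : ∀ i : Fin 3, i = 0 ∨ i = 1 ∨ i = 2 := by decide
    rcases h3 i with rfl | rfl | rfl
    · exact Or.inl (mul_inv_cancel_right k k)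
    · exact Or.inr hkk'c
    · exact Or.inr (by
        change k * (k * k') * k⁻¹ = k * k' * z
        rw [show k * (k * k') * k⁻¹ = k * (k * k' * k⁻¹) by group, hkk'c, mul_assoc])
  have hπk : π k = 1 := Equiv.ext fun i => hun _ _ _ (hf k i) (hpt i)
  -- elements of the kernel
  let rep : Fin 4 → F.H := ![1, k', k, k * k']
  have hker : ∀ x, π x = 1 → ∃ j, x * rep j ∈ C := by
    intro x hx
    have h0 : P 0 (x * k * x⁻¹) := by
      have := hf x 0
      rwa [← hπ, hx] at this
    have h1 : P 1 (x * k' * x⁻¹) := by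
      have := hf x 1
      rwa [← hπ, hx] at this
    have hmem : ∀ w : F.H, w * k * w⁻¹ = k → w * k' * w⁻¹ = k' → w ∈ C := fun w a b =>
      ⟨mul_inv_eq_iff_eq_mul.1 a, mul_inv_eq_iff_eq_mul.1 b⟩
    have hcomp : ∀ w u : F.H, x * w * u * (x * w)⁻¹ = x * (w * u * w⁻¹) * x⁻¹ := fun w u => by group
    rcases h0 with h0 | h0 <;> rcases h1 with h1 | h1 <;>
      simp only [r, Matrix.cons_val_zero, Matrix.cons_val_one] at h0 h1
    · exact ⟨0, hmem _ (by simpa [rep] using h0) (by simpa [rep] using h1)⟩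
    · refine ⟨2, hmem _ ?_ ?_⟩
      · rw [hcomp, show rep 2 = k from rfl, mul_inv_cancel_right, h0]
      · rw [hcomp, show rep 2 = k from rfl, hkk'c, hconjz, h1, hzz']
    · refine ⟨1, hmem _ ?_ ?_⟩
      · rw [hcomp, show rep 1 = k' from rfl, hck k' (Or.inl (Or.inl rfl)), hconjz, h0, hzz']
      · rw [hcomp, show rep 1 = k' from rfl, mul_inv_cancel_right, h1]
    · refine ⟨3, hmem _ ?_ ?_⟩
      · rw [hcomp, show rep 3 = k * k' from rfl, hck (k * k') (Or.inr (Or.inl rfl)), hconjz, h0, hzz']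
      · rw [hcomp, show rep 3 = k * k' from rfl,
          show k * k' * k' * (k * k')⁻¹ = k * k' * k⁻¹ by group, hkk'c, hconjz, h1, hzz']
  have hrep4 : ∀ j, rep j ^ 4 = 1 := by
    have h4 : ∀ u : F.H, u * u = z → u ^ 4 = 1 := fun u hu => by
      rw [show 4 = 2 * 2 by norm_num, pow_mul, pow_two u, hu, pow_two, hzz]
    intro j
    fin_cases j
    exacts [one_pow 4, h4 _ hk2, h4 _ hk, h4 _ hkk'2]
  have hrepC : ∀ j, ∀ c ∈ C, c * rep j = rep j * c := by
    intro j c hc
    fin_cases j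
    exacts [by simp [rep], hc.2, hc.1, hCall c hc _ hkk'2]
  have hkerC : ∀ x, π x = 1 → ∀ c ∈ C, x * c = c * x := by
    intro x hx c hc
    obtain ⟨j, hj⟩ := hker x hx
    have e : Commute (x * rep j) c := hCc _ hj c hc
    have e' : Commute (rep j)⁻¹ c := Commute.inv_left (hrepC j c hc).symm
    have := e.mul_left e'
    rw [mul_inv_cancel_right] at this
    exact this.eq
  have hcentral : ∀ c ∈ C, ∀ x, c * x = x * c := by
    intro c hc x
    have hm : ∀ d ∈ C, x⁻¹ * F.swap x * d = d * (x⁻¹ * F.swap x) := by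
      intro d hd
      have e1 := hCinv _ (hCn x d⁻¹ (inv_mem hd))
      rw [map_mul, map_mul, map_inv, map_inv, hCinv d hd, inv_inv, mul_inv_rev, mul_inv_rev, inv_inv,
        inv_inv, ← mul_assoc] at e1
      calc x⁻¹ * F.swap x * d = x⁻¹ * (F.swap x * d * (F.swap x)⁻¹) * F.swap x := by group
        _ = d * (x⁻¹ * F.swap x) := by rw [e1]; group
    have hπm : π (x⁻¹ * F.swap x) = π x := by
      rw [map_mul, map_inv, hπσ, hinv _ (hsign x)]
      have := hcube _ (hsign x)
      rw [← mul_inv_rev, inv_eq_iff_mul_eq_one, ← this, pow_succ, pow_two]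
    have hr : π ((x⁻¹ * F.swap x)⁻¹ * x) = 1 := by rw [map_mul, map_inv, hπm, inv_mul_cancel]
    have e2 : Commute ((x⁻¹ * F.swap x)⁻¹ * x) c := hkerC _ hr c hc
    have e3 := (show Commute (x⁻¹ * F.swap x) c from hm c hc).mul_left e2
    rw [mul_inv_cancel_left] at e3
    exact e3.symm.eq
  -- counting
  have hle : Nat.card F.H ≤ 12 * Nat.card C := by
    rw [← Subgroup.card_mul_index π.ker, Subgroup.index_ker]
    have h1 : Nat.card π.ker ≤ 4 * Nat.card C := by
      choose j hj using fun x : π.ker => hker x x.2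
      have := Nat.card_le_card_of_injective (fun x : π.ker => ((⟨_, hj x⟩ : C), j x)) (by
        intro x y e
        simp only [Prod.mk.injEq, Subtype.mk.injEq] at e
        rw [e.2] at e
        exact Subtype.ext (mul_right_cancel e.1))
      rw [Nat.card_prod, Nat.card_eq_fintype_card (α := Fin 4), Fintype.card_fin, mul_comm] at this
      exact this
    have h2 : Nat.card π.range ≤ 3 := by
      have := Nat.card_le_card_of_injective
        (fun q : π.range => (⟨q.1, by obtain ⟨x, hx⟩ := q.2; rw [← hx]; exact hsign x⟩ :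
          {q : Equiv.Perm (Fin 3) // Equiv.Perm.sign q = 1}))
        (fun a b e => Subtype.ext (Subtype.mk.inj e))
      refine this.trans (le_of_eq ?_)
      rw [Nat.card_eq_fintype_card]
      decide
    calc Nat.card π.ker * Nat.card π.range ≤ 4 * Nat.card C * 3 := Nat.mul_le_mul h1 h2
      _ = 12 * Nat.card C := by ring
  -- an element of `3`-power order
  have hx0 : π x₀ ≠ 1 := fun e => by
    have h1 := hf x₀ 0
    rw [← hπ, e] at h1
    exact hne01 k' (hk' ▸ h1) (Or.inl rfl)
  obtain ⟨l, m, hm, hlm⟩ := Nat.exists_eq_pow_mul_and_not_dvd (orderOf_pos x₀).ne' 3 (by norm_num)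
  set x := x₀ ^ m with hxdef
  have hm0 : m ≠ 0 := fun e => hm (e ▸ dvd_zero 3)
  have hxo : orderOf x = 3 ^ l := by
    rw [hxdef, orderOf_pow' _ hm0, hlm, Nat.gcd_eq_right (dvd_mul_left _ _),
      Nat.mul_div_cancel _ (Nat.pos_of_ne_zero hm0)]
  have hπ3 : ∀ y, (π y) ^ 3 = 1 := fun y => hcube _ (hsign y)
  have hπx : π x ≠ 1 := by
    rw [hxdef, map_pow]
    intro e
    have h1 : orderOf (π x₀) ∣ Nat.gcd 3 m :=
      Nat.dvd_gcd (orderOf_dvd_of_pow_eq_one (hπ3 _)) (orderOf_dvd_of_pow_eq_one e)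
    rw [(Nat.prime_three.coprime_iff_not_dvd.2 hm).gcd_eq_one, Nat.dvd_one] at h1
    exact hx0 (orderOf_eq_one_iff.1 h1)
  have hx3 : x ^ 3 ≠ 1 := by
    intro e
    have hx1 : x ≠ 1 := fun h => hπx (by rw [h, map_one])
    rcases order_three_unique hz (w := x) (v := k * x * k⁻¹) e hx1
      (by rw [conj_pow, e, mul_one, mul_inv_cancel])
      (fun h => hx1 (by
        rw [mul_inv_eq_one, mul_eq_left] at h
        exact h)) with h | h
    · refine hπx (hfix0 _ (hsign x) (hun _ _ _ (hf x 0) ?_))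
      rw [mul_inv_eq_iff_eq_mul] at h
      exact Or.inl (mul_inv_eq_iff_eq_mul.2 h.symm)
    · apply hπx
      have := congrArg π h
      rw [map_mul, map_mul, map_inv, map_inv, hπk, inv_one, one_mul, mul_one] at this
      have h3 := hπ3 x
      rw [pow_succ, pow_two] at h3
      nth_rewrite 2 [this] at h3
      rwa [mul_inv_cancel, one_mul] at h3
  have hl : 2 ≤ l := by
    by_contra h
    refine hx3 (orderOf_dvd_iff_pow_eq_one.1 ?_)
    rw [hxo]
    exact (pow_dvd_pow 3 (show l ≤ 1 by omega)).trans (by norm_num)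
  have h9 : 9 ∣ Nat.card F.H :=
    ((show (9 : ℕ) ∣ 3 ^ l from (pow_dvd_pow 3 hl))).trans (hxo ▸ orderOf_dvd_natCard x)
  have h3C : 3 ∣ Nat.card C := by
    have hu : π (x ^ 3) = 1 := by rw [map_pow, hπ3]
    obtain ⟨j, hj⟩ := hker _ hu
    have hc : Commute (x ^ 3 * rep j) (rep j)⁻¹ := Commute.inv_right (hrepC j _ hj)
    have h4 : (x ^ 3) ^ 4 ∈ C := by
      rw [show x ^ 3 = x ^ 3 * rep j * (rep j)⁻¹ by rw [mul_inv_cancel_right], hc.mul_pow, inv_pow,
        hrep4, inv_one, mul_one]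
      exact pow_mem hj 4
    have ho : orderOf ((x ^ 3) ^ 4) = 3 ^ (l - 1) := by
      have h1 : orderOf (x ^ 3) = 3 ^ (l - 1) := by
        rw [orderOf_pow' _ (by norm_num), hxo,
          Nat.gcd_eq_right (dvd_pow_self 3 (show l ≠ 0 by omega)),
          Nat.div_eq_iff_eq_mul_left (by norm_num) (dvd_pow_self 3 (show l ≠ 0 by omega)),
          ← pow_succ, show l - 1 + 1 = l by omega]
      rw [Nat.Coprime.orderOf_pow (by rw [h1]; exact Nat.Coprime.pow_left _ (by norm_num)), h1]
    have h2 := orderOf_dvd_natCard (⟨_, h4⟩ : C)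
    rw [Subgroup.orderOf_mk, ho] at h2
    exact (dvd_pow_self 3 (show l - 1 ≠ 0 by omega)).trans h2
  have h2C : 2 ∣ Nat.card C := by
    have := orderOf_dvd_natCard (⟨z, hzC⟩ : C)
    rwa [Subgroup.orderOf_mk, hzord] at this
  -- the field
  have : Nontrivial V := ⟨F.e, 0, F.e_ne⟩
  let ρ : F.H →* AddMonoid.End V := DistribMulAction.toAddMonoidEnd F.H V
  let L := Subring.closure (ρ '' (C : Set F.H))
  have hcc : ∀ a ∈ L, ∀ b ∈ L, a * b = b * a := closure_commute (by
    rintro _ ⟨c, hc, rfl⟩ _ ⟨d, hd, rfl⟩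
    rw [← map_mul, ← map_mul, hCc c hc d hd])
  have hH : ∀ a ∈ L, ∀ (h : F.H) (v : V), a (h • v) = h • a v := closure_commute_smul (by
    rintro _ ⟨c, hc, rfl⟩ h v
    change c • h • v = h • c • v
    rw [← mul_smul, ← mul_smul, hcentral c hc])
  have htr : ∀ v w : V, v ≠ 0 → w ≠ 0 → ∃ h : F.H, h • v = w := fun v w hv hw => by
    obtain ⟨g, hg⟩ := F.exists_smul_e hv
    obtain ⟨h, hh⟩ := F.exists_smul_e hw
    exact ⟨h * g⁻¹, by rw [← hg, mul_smul, inv_smul_smul, hh]⟩
  obtain ⟨hfield, hinj⟩ := isField_of_commute htr L hcc hH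
  let : Field L := hfield.toField
  have : Finite (AddMonoid.End V) := Finite.of_injective _ DFunLike.coe_injective
  let : Module L V := Module.compHom V L.subtype
  have : Module.Finite L V := Module.Finite.of_finite
  have hcardV := Module.natCard_eq_pow_finrank (K := L) (V := V)
  let ι : C →* L :=
    { toFun := fun c => ⟨ρ c, Subring.subset_closure ⟨c, c.2, rfl⟩⟩
      map_one' := Subtype.ext (map_one ρ)
      map_mul' := fun c d => Subtype.ext (map_mul ρ (c : F.H) d) }
  have hιinj : Function.Injective ι.toHomUnits := by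
    intro c d e
    have e1 : ρ c = ρ d := congrArg Subtype.val (congrArg Units.val e)
    exact Subtype.ext (F.eq_of_smul F.e_ne (congrArg (fun a : AddMonoid.End V => a F.e) e1))
  have hCP : Nat.card C ∣ Nat.card L - 1 := by
    rw [← Nat.card_units]
    exact Subgroup.card_dvd_of_injective _ hιinj
  have hrank : Module.finrank L V ≠ 1 := by
    intro h1
    apply hkk'
    refine F.eq_of_smul F.e_ne ?_
    obtain ⟨a, ha⟩ := exists_smul_eq_of_finrank_eq_one h1 F.e_ne (k • F.e)
    obtain ⟨b, hb⟩ := exists_smul_eq_of_finrank_eq_one h1 F.e_ne (k' • F.e)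
    change (a : AddMonoid.End V) F.e = k • F.e at ha
    change (b : AddMonoid.End V) F.e = k' • F.e at hb
    rw [mul_smul, mul_smul, ← hb, ← hH b b.2, ← ha, ← hH a a.2, ← hb]
    exact congrArg (fun u : AddMonoid.End V => u F.e) (hcc b b.2 a a.2)
  exact card_ineq_contra (by rw [F.card_H, hcardV]) hle
    (Nat.Coprime.mul_dvd_of_dvd_of_dvd (by norm_num) h2C h3C) hCP hrank Nat.card_pos h9
    Finite.one_lt_card Nat.card_pos

end Cfsg.Agent.Lib.SharpThree.Frame
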