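import Cfsg.Agent.Lib.SharpThree.Frame

/-!
# Sharply triply transitive groups of degree `p ^ f + 1`, `p` and `f` odd

The two-point stabiliser is commutative and inverted by the swapping element.
-/

set_option autoImplicit false

namespace Cfsg.Agent.Lib.SharpThree.Frame

open MulAction

variable {G α V : Type*} [Group G] [MulAction G α] [AddCommGroup V] {F : Frame G α V} {p : ℕ}

theorem nsmul_act (h : F.H) (n : ℕ) (v : V) : h • (n • v) = n • (h • v) :=
  map_nsmul (DistribSMul.toAddMonoidHom V h) n v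

theorem eq_zero_of_nsmul (hp : p.Prime) (hexp : ∀ v : V, p • v = 0) {k : ℕ} (hk : ¬ p ∣ k) {w : V}
    (hw : k • w = 0) : w = 0 := by
  rcases (Nat.dvd_prime hp).1 (addOrderOf_dvd_iff_nsmul_eq_zero.2 (hexp w)) with h | h
  · exact AddMonoid.addOrderOf_eq_one_iff.1 h
  · exact absurd (h ▸ addOrderOf_dvd_iff_nsmul_eq_zero.2 hw) hk

theorem nsmul_e_eq_zero_iff (hp : p.Prime) (hexp : ∀ v : V, p • v = 0) {k : ℕ} :
    k • F.e = 0 ↔ p ∣ k := by
  constructor
  · intro h
    by_contra hk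
    exact F.e_ne (eq_zero_of_nsmul hp hexp hk h)
  · rintro ⟨l, rfl⟩
    rw [mul_nsmul, hexp, smul_zero]

variable {z : F.H} (hz : ∀ v : V, z • v = -v)

include hz

/-- The elements of `H` carrying `c` into the prime field are inverted. -/
theorem swap_eq_inv_of_nsmul (hp : p.Prime) (hexp : ∀ v : V, p • v = 0) :
    ∀ (m : ℕ) (h : F.H), h • F.e = m • F.e → F.swap h = h⁻¹ := by
  intro m
  induction m with
  | zero =>
    intro h hh
    rw [zero_smul] at hh
    exact absurd (by simpa using congrArg (h⁻¹ • ·) hh) F.e_ne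
  | succ m ih =>
    intro h' hh'
    by_cases hm : m • F.e = 0
    · rw [add_nsmul, hm, zero_add, one_nsmul] at hh'
      rw [F.eq_one_of_smul h' F.e_ne hh', map_one, inv_one]
    obtain ⟨h, hh⟩ := F.exists_smul_e hm
    have hs := ih h hh
    set X := F.swap h' • F.e with hX
    have hu : ∀ w, (F.tr (-F.e) * (z : G)) • F.pt w = F.pt (-F.e - w) := fun w => by
      rw [mul_smul, ← F.pt_act, hz, F.tr_smul, sub_eq_add_neg]
    have h1 : -F.e - h • F.e = (z * h') • F.e := by
      rw [mul_smul, hz, hh', hh, add_nsmul, one_nsmul]; abel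
    have h2 : -F.e - h⁻¹ • F.e = (h⁻¹ * (z * h')) • F.e := by
      rw [mul_smul, mul_smul, hz, hh', add_nsmul, one_nsmul, ← hh, neg_add, smul_add, smul_neg,
        smul_neg, inv_smul_smul]
      abel
    have := key_relation hz (h • F.e)
    simp only at this
    rw [hu, h1, F.s_smul_pt, hu, F.s_smul_pt, hs, hu, h2, F.s_smul_pt, map_mul, swap_neg hz,
      map_mul, map_mul, swap_neg hz, map_inv, hs, inv_inv] at this
    have heq := F.pt_injective this
    rw [mul_smul, mul_smul, mul_smul, hz, ← hX, smul_neg] at heq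
    set y := h'⁻¹ • F.e with hy
    have hy1 : (m + 1) • y = F.e := by rw [hy, ← nsmul_act, ← hh', inv_smul_smul]
    have hnd : ¬ p ∣ m + 1 := fun hd => F.e_ne (by
      rw [(nsmul_e_eq_zero_iff hp hexp).2 hd] at hh'
      simpa using congrArg (h'⁻¹ • ·) hh')
    have hy2 : h • y + y = F.e := by
      refine sub_eq_zero.1 (eq_zero_of_nsmul hp hexp hnd ?_)
      rw [nsmul_sub, nsmul_add, ← nsmul_act, hy1, hh, add_nsmul, one_nsmul, sub_self]
    have hD : h • (X - y) = z • (X - y) := by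
      rw [hz, smul_sub]
      linear_combination (norm := abel) heq - hy2
    have hXy : X = y := by
      by_contra hne
      have he := F.eq_of_smul (sub_ne_zero.2 hne) hD
      rw [he, hz] at hh
      exact hnd ((nsmul_e_eq_zero_iff (F := F) hp hexp).1 (by
        rw [add_nsmul, one_nsmul, ← hh, neg_add_cancel]))
    exact F.eq_of_smul F.e_ne hXy

omit hz in
theorem card_H_eq [Finite α] {f : ℕ} (hcard : Nat.card V = p ^ f) : Nat.card F.H + 1 = p ^ f := by
  rw [F.card_H, hcard]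

theorem inverts_and_no_anticommute [Finite α] (hp : p.Prime) (hp2 : p ≠ 2)
    (hexp : ∀ v : V, p • v = 0) {f : ℕ} (hf : Odd f) (hcard : Nat.card V = p ^ f) :
    (∀ y d : F.H, y * d * y⁻¹ = d⁻¹ → d * d = 1) ∧ ∀ x k : F.H, x * k * x⁻¹ ≠ k * z := by
  classical
  have := F.finite_V
  have : Fact p.Prime := ⟨hp⟩
  haveI : Module (ZMod p) V := AddCommGroup.zmodModule hexp
  have : Module.Finite (ZMod p) V := Module.Finite.of_finite
  have hrank : Module.finrank (ZMod p) V = f := by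
    have h := Module.natCard_eq_pow_finrank (K := ZMod p) (V := V)
    rw [hcard, Nat.card_zmod] at h
    exact (Nat.pow_right_injective hp.two_le h).symm
  let T : F.H →* Module.End (ZMod p) V :=
    { toFun := fun k => (DistribSMul.toAddMonoidHom V k).toZModLinearMap p
      map_one' := LinearMap.ext fun v => by change (1 : F.H) • v = v; exact one_smul _ v
      map_mul' := fun g h => LinearMap.ext fun v => by
        change (g * h) • v = g • h • v
        exact mul_smul g h v }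
  let δ : F.H →* ZMod p := LinearMap.det.comp T
  have hδ : ∀ k : F.H, δ k ≠ 0 := fun k h => one_ne_zero (α := ZMod p) (by
    rw [← map_one δ, ← mul_inv_cancel k, map_mul, h, zero_mul])
  have hneg : ∀ A : Module.End (ZMod p) V, LinearMap.det (-A) = -LinearMap.det A := fun A => by
    rw [← neg_one_smul (ZMod p) A, LinearMap.det_smul, hrank, hf.neg_one_pow, neg_one_mul]
  have h2 : (2 : ZMod p) ≠ 0 := fun h =>
    hp2 ((Nat.prime_dvd_prime_iff_eq hp Nat.prime_two).1 ((ZMod.natCast_eq_zero_iff 2 p).1 (by exact_mod_cast h)))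
  have hdet : ∀ y d : F.H, d ≠ 1 → y * d * y⁻¹ = d⁻¹ → δ d⁻¹ = -1 := by
    intro y d hd hyd
    have e1 : T y * (T d - 1) = (T d⁻¹ - 1) * T y := by
      rw [mul_sub, sub_mul, ← map_mul, ← map_mul, ← hyd, inv_mul_cancel_right, mul_one, one_mul]
    have e2 : T d⁻¹ - 1 = -T d⁻¹ * (T d - 1) := by
      rw [mul_sub, neg_mul, neg_mul, ← map_mul, inv_mul_cancel, map_one, mul_one]
      abel
    have hne : LinearMap.det (T d - 1) ≠ 0 := by
      intro h0
      have hker : LinearMap.ker (T d - 1) ≠ ⊥ := ne_of_gt (LinearMap.bot_lt_ker_of_det_eq_zero h0)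
      obtain ⟨v, hv, hv0⟩ := (Submodule.ne_bot_iff _).1 hker
      exact hd (F.eq_one_of_smul d hv0 (sub_eq_zero.1 (LinearMap.mem_ker.1 hv)))
    have e3 := congrArg LinearMap.det e1
    rw [map_mul, map_mul, e2, map_mul, hneg, mul_comm (LinearMap.det (T y))] at e3
    have e4 := mul_right_cancel₀ (hδ y) e3
    have e5 : (-δ d⁻¹ - 1) * LinearMap.det (T d - 1) = 0 := by
      rw [sub_mul, one_mul, sub_eq_zero]
      exact e4.symm
    exact neg_eq_iff_eq_neg.1 (sub_eq_zero.1 ((mul_eq_zero.1 e5).resolve_right hne))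
  refine ⟨fun y d hyd => ?_, fun x k hxk => ?_⟩
  · by_contra hdd
    have a1 := hdet y d (fun h => hdd (by rw [h, mul_one])) hyd
    have a2 := hdet y (d * d) hdd (by
      rw [mul_inv_rev, ← hyd]
      group)
    rw [mul_inv_rev, map_mul, a1] at a2
    exact h2 (by linear_combination a2)
  · have hzT : T z = -1 := LinearMap.ext fun v => hz v
    have e := congrArg δ hxk
    rw [map_mul, map_mul, map_mul, mul_comm (δ x), mul_assoc, ← map_mul, mul_inv_cancel, map_one,
      mul_one, show δ z = -1 by rw [show δ z = LinearMap.det (T z) from rfl, hzT, hneg, map_one]] at e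
    exact hδ k ((mul_eq_zero.1 (show (2 : ZMod p) * δ k = 0 by linear_combination e)).resolve_left h2)

theorem exists_two_part [Finite α] (hp : p.Prime) (hp2 : p ≠ 2)
    (hexp : ∀ v : V, p • v = 0) {f : ℕ} (hf : Odd f) (hcard : Nat.card V = p ^ f) :
    ∃ (π : F.H) (A : ℕ), 1 ≤ A ∧ orderOf π = 2 ^ A ∧ F.swap π = π⁻¹ ∧
      ¬ 2 ^ (A + 1) ∣ Nat.card F.H := by
  classical
  have : Fact p.Prime := ⟨hp⟩
  obtain ⟨g, hg⟩ := IsCyclic.exists_generator (α := (ZMod p)ˣ)
  have hgo : orderOf g = p - 1 := by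
    rw [orderOf_eq_card_of_forall_mem_zpowers hg, Nat.card_eq_fintype_card, ZMod.card_units]
  set n := (g : ZMod p).val with hn
  have hcast : ((n : ℕ) : ZMod p) = g := ZMod.natCast_zmod_val _
  have hne : n • F.e ≠ 0 := fun h => g.ne_zero (by
    rw [← hcast, (ZMod.natCast_eq_zero_iff _ p).2 ((nsmul_e_eq_zero_iff hp hexp).1 h)])
  obtain ⟨h, hh⟩ := F.exists_smul_e hne
  have hpow : ∀ k : ℕ, h ^ k • F.e = (n ^ k) • F.e := by
    intro k
    induction k with
    | zero => simp
    | succ k ih => rw [pow_succ', mul_smul, ih, nsmul_act, hh, smul_smul, pow_succ]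
  have hiff : ∀ k : ℕ, h ^ k = 1 ↔ g ^ k = 1 := by
    intro k
    have e1 : (n ^ k) • F.e = F.e ↔ ((n ^ k : ℕ) : ZMod p) = 1 := by
      rw [← Nat.cast_one, ZMod.natCast_eq_natCast_iff]
      have ho : addOrderOf F.e = p := addOrderOf_eq_prime (hexp _) F.e_ne
      conv_lhs => rhs; rw [← one_nsmul F.e]
      rw [nsmul_eq_nsmul_iff_modEq, ho]
    rw [← Units.val_eq_one, Units.val_pow_eq_pow_val, ← hcast, ← Nat.cast_pow, ← e1, ← hpow]
    exact ⟨fun e => by rw [e, one_smul], fun e => F.eq_one_of_smul _ F.e_ne e⟩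
  have hho : orderOf h = p - 1 := by
    rw [← hgo]
    exact orderOf_eq_orderOf_iff.2 hiff
  have hp3 : 3 ≤ p := by have := hp.two_le; omega
  obtain ⟨A, m, hm, hAm⟩ := Nat.exists_eq_two_pow_mul_odd (show p - 1 ≠ 0 by omega)
  have hA : 1 ≤ A := by
    rcases Nat.eq_zero_or_pos A with rfl | hA
    · rw [pow_zero, one_mul] at hAm
      obtain ⟨l, hl⟩ := hp.odd_of_ne_two hp2
      obtain ⟨r, hr⟩ := hm
      omega
    · exact hA
  have hswap := swap_eq_inv_of_nsmul hz hp hexp n h hh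
  refine ⟨h ^ m, A, hA, ?_, by rw [map_pow, hswap, inv_pow], ?_⟩
  · have hm0 : m ≠ 0 := fun h0 => by simp [h0] at hm
    rw [orderOf_pow' h hm0, hho, hAm, Nat.gcd_eq_right (dvd_mul_left _ _),
      Nat.mul_div_cancel _ (Nat.pos_of_ne_zero hm0)]
  · intro hd
    have hH : Nat.card F.H = 2 ^ A * (m * ∑ i ∈ Finset.range f, p ^ i) := by
      rw [← mul_assoc, ← hAm, mul_comm]
      have h1 := Nat.geomSum_eq (m := p) (by omega) f
      have h2 := card_H_eq (F := F) hcard
      rw [h1, Nat.div_mul_cancel (Nat.sub_one_dvd_pow_sub_one p f)]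
      omega
    rw [hH, pow_succ] at hd
    have h2 := Nat.dvd_of_mul_dvd_mul_left (Nat.two_pow_pos A) hd
    rw [← ZMod.natCast_eq_zero_iff, Nat.cast_mul, Nat.cast_sum] at h2
    simp only [Nat.cast_pow, ZMod.natCast_eq_one_iff_odd.2 hm, ZMod.natCast_eq_one_iff_odd.2
      (hp.odd_of_ne_two hp2), one_pow, Finset.sum_const, Finset.card_range, nsmul_one, one_mul,
      ZMod.natCast_eq_one_iff_odd.2 hf] at h2
    exact one_ne_zero h2

omit hz in
/-- Elements fixed modulo a central inverted cyclic group. -/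
theorem eq_zpow_or_of_swap_eq_mul_zpow {b h : F.H} (hb : ∀ x, b * x = x * b) (hh : h * h = b)
    (hswap : F.swap h = h⁻¹) (hfix : ∀ k : F.H, F.swap k = k → ∃ j : ℤ, k = b ^ j) {k : F.H}
    {j : ℤ} (hk : F.swap k = k * b ^ j) : ∃ i : ℤ, k = b ^ i ∨ k = h * b ^ i := by
  have hcb : ∀ (i : ℤ) x, b ^ i * x = x * b ^ i := fun i x => ((Commute.zpow_left (hb x)) i).eq
  have hsb : ∀ i : ℤ, F.swap (b ^ i) = b ^ (-i) := fun i => by
    rw [map_zpow, ← hh, map_mul, hswap, zpow_neg, ← inv_zpow, mul_inv_rev]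
  obtain ⟨i, rfl | rfl⟩ := Int.even_or_odd' j
  · obtain ⟨t, ht⟩ := hfix (k * b ^ i) (by
      rw [map_mul, hk, hsb, mul_assoc, ← zpow_add, two_mul, add_neg_cancel_right])
    exact ⟨t - i, Or.inl (by rw [zpow_sub, ← ht, mul_inv_cancel_right])⟩
  · have hh' : h⁻¹ = h * b⁻¹ := by rw [← hh]; group
    obtain ⟨t, ht⟩ := hfix (k * (h * b ^ i)) (by
      rw [map_mul, map_mul, hk, hsb, hswap, hh', mul_assoc k, ← mul_assoc (b ^ (2 * i + 1)),
        ← mul_assoc (b ^ (2 * i + 1)), hcb (2 * i + 1) h, mul_assoc, mul_assoc, ← zpow_neg_one,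
        ← zpow_add, ← zpow_add]
      congr 3
      ring)
    refine ⟨t - i - 1, Or.inr ?_⟩
    calc k = b ^ t * (b ^ (-i) * h⁻¹) := by rw [← ht]; group
      _ = h * b ^ (t - i - 1) := by
        rw [hh', ← mul_assoc, ← zpow_add, ← mul_assoc, hcb (t + -i) h, mul_assoc, ← zpow_neg_one,
          ← zpow_add]
        congr 2

/-- One step of the induction showing that two-elements are central. -/
theorem central_step [Finite α] {b h : F.H} (hb : ∀ x, b * x = x * b) (hh : h * h = b)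
    (hswap : F.swap h = h⁻¹) (hzb : ∃ j : ℤ, z = b ^ j) (hhb : ∀ j : ℤ, h ≠ b ^ j)
    (hd : ∀ y d : F.H, y * d * y⁻¹ = d⁻¹ → d * d = 1) (hac : ∀ x k : F.H, x * k * x⁻¹ ≠ k * z) :
    ∀ x, h * x = x * h := by
  intro x
  obtain ⟨jz, hjz⟩ := hzb
  obtain ⟨y, hy⟩ : ∃ y, y = x * h * x⁻¹ := ⟨_, rfl⟩
  have hyy : y * y = b := by
    rw [hy, show x * h * x⁻¹ * (x * h * x⁻¹) = x * (h * h) * x⁻¹ by group, hh, ← hb,
      mul_inv_cancel_right]
  have hyi : y⁻¹ = y * b⁻¹ := by rw [← hyy]; group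
  have hsb : F.swap b = b⁻¹ := by rw [← hh, map_mul, hswap, mul_inv_rev]
  have hsy : (F.swap y)⁻¹ = F.swap y * b := by
    rw [← map_inv, hyi, map_mul, map_inv, hsb, inv_inv]
  have hcomm : ∀ k, b⁻¹ * k = k * b⁻¹ := fun k => ((Commute.inv_left (hb k))).eq
  have hinvd : y * (F.swap y * y) * y⁻¹ = (F.swap y * y)⁻¹ :=
    calc y * (F.swap y * y) * y⁻¹ = y * F.swap y := by group
      _ = y * (b⁻¹ * F.swap y * b) := by rw [hcomm, inv_mul_cancel_right]
      _ = _ := by rw [mul_inv_rev, hsy, hyi]; simp only [mul_assoc]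
  obtain ⟨e, he⟩ : ∃ e : ℤ, F.swap y * y = b ^ e := by
    rcases eq_one_or_eq_neg hz (hd _ _ hinvd) with h' | h'
    · exact ⟨0, by rw [h', zpow_zero]⟩
    · exact ⟨jz, h'.trans hjz⟩
  obtain ⟨i, hi | hi⟩ := eq_zpow_or_of_swap_eq_mul_zpow hb hh hswap (fun k hk => by
      rcases eq_of_swap_eq hz hk with h' | h'
      · exact ⟨0, by rw [h', zpow_zero]⟩
      · exact ⟨jz, h'.trans hjz⟩) (k := y) (j := -1 + e) (by
      rw [zpow_add, zpow_neg_one, ← mul_assoc, ← hyi, ← ((Commute.zpow_left (hb y⁻¹)) e).eq, ← he,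
        mul_inv_cancel_right])
  · exfalso
    refine hhb i ?_
    calc h = x⁻¹ * y * x := by rw [hy]; group
      _ = b ^ i := by rw [hi, mul_assoc, ((Commute.zpow_left (hb x)) i).eq, inv_mul_cancel_left]
  · have h2 : b ^ i * b ^ i = 1 := by
      have := hyy
      rw [hi, show h * b ^ i * (h * b ^ i) = h * (b ^ i * h) * b ^ i by group,
        ((Commute.zpow_left (hb h)) i).eq, show h * (h * b ^ i) * b ^ i = h * h * (b ^ i * b ^ i) by group,
        hh] at this
      exact mul_left_cancel (this.trans (mul_one b).symm)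
    rcases eq_one_or_eq_neg hz h2 with h' | h'
    · rw [h', mul_one, hy] at hi
      exact (mul_inv_eq_iff_eq_mul.1 hi).symm
    · rw [h', hy] at hi
      exact absurd hi (hac x h)

/-- For odd `p` and odd `f`, `swap` inverts all of the two-point stabiliser. -/
theorem inverts_of_odd [Finite α] (hp : p.Prime) (hp2 : p ≠ 2)
    (hexp : ∀ v : V, p • v = 0) {f : ℕ} (hf : Odd f) (hcard : Nat.card V = p ^ f) :
    ∀ k : F.H, F.swap k = k⁻¹ := by
  classical
  have := F.finite_H
  obtain ⟨hd, hac⟩ := inverts_and_no_anticommute hz hp hp2 hexp hf hcard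
  obtain ⟨π, A, hA, hπ, hπs, hmax⟩ := exists_two_part hz hp hp2 hexp hf hcard
  have hz1 : z ≠ 1 := neg_ne_one hz (by rw [hcard]; exact (hp.odd_of_ne_two hp2).pow)
  have hzπ : ∀ a, a + 1 ≤ A → π ^ (2 ^ (A - (a + 1))) ≠ 1 := by
    intro a ha h
    rw [← orderOf_dvd_iff_pow_eq_one, hπ, Nat.pow_dvd_pow_iff_le_right (by norm_num)] at h
    omega
  have hzeq : π ^ (2 ^ (A - 1)) = z := by
    refine (eq_one_or_eq_neg hz ?_).resolve_left (hzπ 0 hA)
    rw [← pow_add, ← two_mul, ← pow_succ', show A - 1 + 1 = A by omega, ← hπ, pow_orderOf_eq_one]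
  have hcent : ∀ a, a < A → ∀ x, π ^ (2 ^ (A - (a + 1))) * x = x * π ^ (2 ^ (A - (a + 1))) := by
    intro a
    induction a with
    | zero => intro _ x; rw [zero_add, hzeq]; exact neg_comm hz x
    | succ a ih =>
      intro ha
      set h := π ^ (2 ^ (A - (a + 1 + 1))) with hh
      have hhh : h * h = π ^ (2 ^ (A - (a + 1))) := by
        rw [hh, ← pow_add, ← two_mul, ← pow_succ', show A - (a + 1 + 1) + 1 = A - (a + 1) by omega]
      refine central_step hz (b := π ^ (2 ^ (A - (a + 1)))) (ih (by omega)) hhh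
        (by rw [hh, map_pow, hπs, inv_pow]) ⟨(2 : ℤ) ^ a, ?_⟩ (fun j hj => ?_) hd hac
      · rw [show ((2 : ℤ) ^ a) = ((2 ^ a : ℕ) : ℤ) by norm_num, zpow_natCast, ← pow_mul, ← pow_add,
          show A - (a + 1) + a = A - 1 by omega, hzeq]
      · have h1 := congrArg (fun g => g ^ (2 ^ (a + 1))) hj
        rw [← zpow_natCast ((π ^ _) ^ j), ← zpow_mul, mul_comm, zpow_mul, zpow_natCast, hh, ← pow_mul,
          ← pow_mul, ← pow_add, ← pow_add, show A - (a + 1) + (a + 1) = A by omega,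
          show A - (a + 1 + 1) + (a + 1) = A - 1 by omega, hzeq, ← hπ, pow_orderOf_eq_one,
          one_zpow] at h1
        exact hz1 h1
  have hπc : ∀ x, π * x = x * π := fun x => by
    have := hcent (A - 1) (by omega) x
    rwa [show A - (A - 1 + 1) = 0 by omega, pow_zero, pow_one] at this
  intro k
  refine F.inverts_of_forall_ne ⊤ (fun _ _ => Subgroup.mem_top _) π (Subgroup.mem_top _)
    (fun x _ => hπc x) hπs (fun x _ hx => eq_of_swap_eq hz hx) (fun x _ hx => ?_) k (Subgroup.mem_top _)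
  have hsq : x * x * π = 1 ∨ x * x * π = z := eq_of_swap_eq hz (by
    rw [map_mul, map_mul, hπs, hx, show x * π * (x * π) * π⁻¹ = x * (π * x) by group, hπc,
      mul_assoc])
  apply hmax
  suffices horder : orderOf x = 2 ^ (A + 1) from horder ▸ orderOf_dvd_natCard x
  have h1 : ∀ j : ℤ, Odd j → x * x = π ^ j → orderOf x = 2 ^ (A + 1) := by
    intro j hj hxx
    have : Fact (Nat.Prime 2) := ⟨Nat.prime_two⟩
    refine orderOf_eq_prime_pow ?_ ?_
    · intro h
      have e : (π ^ j) ^ (2 ^ (A - 1)) = 1 := by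
        rw [← hxx, ← pow_two, ← pow_mul, ← pow_succ', show A - 1 + 1 = A by omega]; exact h
      rw [← zpow_natCast (π ^ j), ← zpow_mul, mul_comm, zpow_mul, zpow_natCast, hzeq] at e
      obtain ⟨l, rfl⟩ := hj
      rw [zpow_add, zpow_mul, zpow_ofNat, pow_two, neg_mul_self hz, one_zpow, one_mul, zpow_one] at e
      exact hz1 e
    · rw [pow_succ', pow_mul, pow_two, hxx, ← zpow_natCast (π ^ j), ← zpow_mul, mul_comm, zpow_mul,
        zpow_natCast, ← hπ, pow_orderOf_eq_one, one_zpow]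
  rcases hsq with h | h
  · exact h1 (-1) ⟨-1, rfl⟩ (by rw [zpow_neg_one]; exact eq_inv_of_mul_eq_one_left h)
  · rcases Nat.lt_or_ge 1 A with hA2 | hA2
    · refine h1 (-1 + ((2 ^ (A - 1) : ℕ) : ℤ)) ⟨-1 + ((2 ^ (A - 2) : ℕ) : ℤ), ?_⟩ ?_
      · rw [show A - 1 = A - 2 + 1 by omega, pow_succ]; push_cast; ring
      · rw [zpow_add, zpow_natCast, zpow_neg_one, hzeq, ← h, ← hπc (x * x), inv_mul_cancel_left]
    · obtain rfl : A = 1 := by omega
      rw [Nat.sub_self, pow_zero, pow_one] at hzeq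
      exfalso
      rw [hzeq, mul_eq_right] at h
      rcases eq_one_or_eq_neg hz h with e | e
      · rw [e, map_one, one_mul] at hx
        exact hz1 (hzeq ▸ hx.symm)
      · rw [e, swap_neg hz, hzeq, neg_mul_self hz] at hx
        exact hz1 hx

end Cfsg.Agent.Lib.SharpThree.Frame
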